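import Cfsg.Agent.TrialityTwo.Order
import Cfsg.Agent.TypeD4Two.Five

/-!
# The order of `t t^n` is not five (helper186, for helper814)

`u = (n t) ^ 5` would be an involution commuting with `f = (n t) ^ 2` of order five; `TypeD4Two.Five`.
-/

set_option autoImplicit false

namespace Cfsg.Agent.TrialityTwo.OrderFour

open Cfsg.Agent.TrialityTwo.Nine Cfsg.Agent.TrialityTwo.Perm Cfsg.Agent.TrialityTwo.Lift
open Cfsg.Agent.TrialityTwo.RelCx Cfsg.Agent.TrialityTwo.StepT Cfsg.Agent.TrialityTwo.Order

variable {G : Type*} [Group G] {Q A : Subgroup G} {z a' : G} {a : ℕ → G} {d e n t : G}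

theorem not_five [Finite G] (h : Cfsg.Agent.TypeD4Two.NinePair.Hyp Q z A a') (X : Ctx Q z a)
    (g : Gens z a d e n) (ht : t * t = 1) (htd : t * d = d * t) (htz : t * z * t = a 0)
    (h5 : (t * (n * t * n)) ^ 5 = 1) : False := by
  have nn := X.nine
  have hnn : n * n = 1 := g.rel.n2
  have hni : n⁻¹ = n := n_inv g
  have hti : t⁻¹ = t := inv_eq_of_mul_eq_one_left ht
  have hnd : n * d = d⁻¹ * n := by
    have h1 : (n * d) * (n * d) = 1 := g.rel.nd
    calc n * d = (n * d) * (n * d) * (d⁻¹ * n⁻¹) := by group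
      _ = d⁻¹ * n := by rw [h1, one_mul, hni]
  set f : G := (n * t) ^ 2 with hf
  -- `f` is the inverse of `t n t n`
  have hff : f = (t * (n * t * n))⁻¹ := by
    rw [hf, pow_two]
    calc n * t * (n * t) = n * t * n * t := by group
      _ = (t * (n * t * n))⁻¹ := by rw [mul_inv_rev, mul_inv_rev, mul_inv_rev, hni, hti]; group
  have hf5 : f ^ 5 = 1 := by rw [hff, inv_pow, h5, inv_one]
  -- `f` commutes with `d`
  have hnd' : n * d⁻¹ = d * n := by
    calc n * d⁻¹ = d * (d⁻¹ * n) * d⁻¹ := by group
      _ = d * (n * d) * d⁻¹ := by rw [hnd]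
      _ = d * n := by group
  have htd' : t * d⁻¹ = d⁻¹ * t := by
    have : Commute t d := htd
    exact this.inv_right.eq
  have hxd : (n * t) * d = d⁻¹ * (n * t) := by
    calc (n * t) * d = n * (t * d) := by group
      _ = (n * d) * t := by rw [htd]; group
      _ = d⁻¹ * (n * t) := by rw [hnd]; group
  have hxd' : (n * t) * d⁻¹ = d * (n * t) := by
    calc (n * t) * d⁻¹ = n * (t * d⁻¹) := by group
      _ = (n * d⁻¹) * t := by rw [htd']; group
      _ = d * (n * t) := by rw [hnd']; group
  have hfd : Commute f d := by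
    show f * d = d * f
    rw [hf, pow_two]
    calc n * t * (n * t) * d = n * t * ((n * t) * d) := by group
      _ = ((n * t) * d⁻¹) * (n * t) := by rw [hxd]; group
      _ = d * (n * t * (n * t)) := by rw [hxd']; group
  -- `u`
  set u : G := (n * t) ^ 5 with hu
  have huu : u * u = 1 := by
    have : u * u = f ^ 5 := by
      rw [hu, hf, ← pow_add, ← pow_mul]
    rw [this, hf5]
  have hfu : f * u = u * f := by rw [hf, hu, ← pow_add, ← pow_add, add_comm]
  have hu1 : u ≠ 1 := by
    intro hu1
    have h1 : n * t = f ^ 3 := by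
      have h2 : f ^ 3 = (n * t) ^ 5 * (n * t) := by
        rw [hf, ← pow_mul, show 2 * 3 = 5 + 1 from rfl, pow_succ]
      rw [h2, ← hu, hu1, one_mul]
    have h3 : Commute (n * t) d := by rw [h1]; exact hfd.pow_left 3
    have h4 : (n * t) * d = d * (n * t) := h3
    rw [hxd] at h4
    have h5 : d⁻¹ = d := mul_right_cancel h4
    have h6 : d ^ 2 = 1 := by rw [pow_two]; nth_rw 1 [← h5]; exact inv_mul_cancel d
    have h7 := orderOf_dvd_of_pow_eq_one h6
    rw [orderOf_d nn g] at h7
    exact absurd (Nat.le_of_dvd (by norm_num) h7) (by norm_num)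
  have hf1 := Cfsg.Agent.TypeD4Two.Five.comm_five h huu hu1 hf5 hfu
  have hnt : n * t = t * n := by
    rw [hf, pow_two] at hf1
    have := eq_inv_of_mul_eq_one_left hf1
    rwa [mul_inv_rev, hni, hti] at this
  have hnz : n * z = z * n := g.nz
  have h1 : n * a 0 * n = a 0 := by
    rw [← htz]
    calc n * (t * z * t) * n = (n * t) * z * (t * n) := by group
      _ = t * (n * z) * (n * t) := by rw [hnt]; group
      _ = t * z * (n * n) * t := by rw [hnz]; group
      _ = t * z * t := by rw [hnn, mul_one]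
  have h2 : n * a 0 * n = a 1 := bb_eq g
  rw [h2] at h1
  exact (ne_point nn (i := 1) (j := 0) (by norm_num) (by norm_num) (by norm_num)).1 h1

/-- OUTPUT: the order of `t t^n` divides three or four. -/
theorem order_three_four [Finite G] (h : Cfsg.Agent.TypeD4Two.NinePair.Hyp Q z A a') (X : Ctx Q z a)
    (g : Gens z a d e n) (hPG : HPG z a) (ht : t * t = 1) (htd : t * d = d * t)
    (htz : t * z * t = a 0) : (t * (n * t * n)) ^ 3 = 1 ∨ (t * (n * t * n)) ^ 4 = 1 := by
  rcases order_tn X g hPG ht htd htz with h1 | h1 | h1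
  · exact Or.inl h1
  · exact Or.inr h1
  · exact (not_five h X g ht htd htz h1).elim

end Cfsg.Agent.TrialityTwo.OrderFour
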