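import Cfsg.Agent.TrialityTwo.Lift

/-!
# Labellings of the nine points (helper814)

`Lab Q z b`: the nine points are labelled such that the translations (with respect to the structure of `F₈` on
the labels `1, …, 8`: label `1` is `0`, label `2 + i` is `μ ^ i`, `μ ^ 3 = μ + 1`) are induced by elements of
`C(z)`, and every involution of `C(z)/Q` fixing the point `b 0` is a translation.
-/

set_option autoImplicit false

namespace Cfsg.Agent.TrialityTwo.Lab

open Cfsg.Agent.LargeExtra.Model Cfsg.Agent.LargeExtra.Pres Cfsg.Agent.TrialityTwo.Nine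
open Cfsg.Agent.TrialityTwo.Perm Cfsg.Agent.TrialityTwo.Lift

/-- `p` is the code of an injective map of `{0, …, 8}` -/
def wp (p : ℕ) : Bool :=
  allN (fun i => Nat.blt (gt p i) 9 && allN (fun j => Nat.beq i j || !Nat.beq (gt p i) (gt p j)) 9) 9

theorem wp_lt {p : ℕ} (h : wp p = true) {i : ℕ} (hi : i < 9) : gt p i < 9 := by
  unfold wp at h
  rw [allN_iff] at h
  have := h i hi
  rw [Bool.and_eq_true] at this
  simpa using this.1

theorem wp_inj {p : ℕ} (h : wp p = true) {i j : ℕ} (hi : i < 9) (hj : j < 9) (hij : gt p i = gt p j) :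
    i = j := by
  unfold wp at h
  rw [allN_iff] at h
  have := h i hi
  rw [Bool.and_eq_true, allN_iff] at this
  have h2 := this.2 j hj
  rw [Bool.or_eq_true] at h2
  rcases h2 with h2 | h2
  · simpa using h2
  · rw [hij] at h2
    simp at h2

theorem wp_of {p : ℕ} (h1 : ∀ i < 9, gt p i < 9) (h2 : ∀ i < 9, ∀ j < 9, gt p i = gt p j → i = j) :
    wp p = true := by
  unfold wp
  rw [allN_iff]
  intro i hi
  rw [Bool.and_eq_true, allN_iff]
  refine ⟨by simpa using h1 i hi, fun j hj => ?_⟩
  rw [Bool.or_eq_true]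
  by_cases h : gt p i = gt p j
  · left; simpa using h2 i hi j hj h
  · right
    have h3 : Nat.beq (gt p i) (gt p j) = false := by
      rw [Bool.eq_false_iff]
      exact fun h4 => h (Nat.eq_of_beq_eq_true h4)
    rw [h3]; rfl

theorem wp_of_vp {p : ℕ} (h : vp p = true) : wp p = true :=
  wp_of (fun _ hi => vp_lt h hi) (fun _ hi _ hj => vp_inj h hi hj)

/-- the translation taking the label `1` (zero) to the label `i` -/
def tri : ℕ → ℕ
  | 2 => 0x467385120
  | 3 => 0x784261530
  | 4 => 0x253716840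
  | 5 => 0x648172350
  | 6 => 0x521834760
  | 7 => 0x312458670
  | 8 => 0x135627480
  | _ => 0x876543210

/-- The labelling. -/
structure _root_.Cfsg.Agent.TrialityTwo.Lab {G : Type*} [Group G] (Q : Subgroup G) (z : G) (b : ℕ → G) :
    Prop where
  ctx : Ctx Q z b
  /-- `C(z)` permutes the nine points up to sign -/
  act : ∀ c, c * z = z * c → ∃ p, wp p = true ∧ Act z b c p
  /-- transitively -/
  trans : ∀ i < 9, ∃ c p, c * z = z * c ∧ wp p = true ∧ Act z b c p ∧ gt p 0 = i
  /-- the translations -/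
  tr : ∀ i, 1 ≤ i → i < 9 → ∃ c, c * z = z * c ∧ Act z b c (tri i)
  /-- involutions fixing the point `0` are translations -/
  inv : ∀ c p, c * z = z * c → wp p = true → Act z b c p → gt p 0 = 0 → (∀ i < 9, gt p (gt p i) = i) →
    ∃ i, 1 ≤ i ∧ i < 9 ∧ ∀ j < 9, gt p j = gt (tri i) j

end Cfsg.Agent.TrialityTwo.Lab
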