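import Cfsg.Agent.TrialityTwo.StepM
import Cfsg.Agent.TrialityTwo.OrderFour
import Cfsg.Agent.TypeD4Two.LabOf
import Cfsg.Agent.TypeD4Two.Bridge

/-!
# The recognition theorem for `³D₄(2)` (helper814, helper186, helper282)
-/

set_option autoImplicit false

namespace Cfsg.Agent.TrialityTwo.Main

open Cfsg.Agent.LargeExtra.Model Cfsg.Agent.LargeExtra.Pres Cfsg.Agent.TrialityTwo.Nine
open Cfsg.Agent.TrialityTwo.Perm Cfsg.Agent.TrialityTwo.Lift Cfsg.Agent.TrialityTwo.RelCx
open Cfsg.Agent.TrialityTwo.PGam Cfsg.Agent.TrialityTwo.StepD Cfsg.Agent.TrialityTwo.StepT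
open Cfsg.Agent.TrialityTwo.Lab Cfsg.Agent.TrialityTwo.StepU Cfsg.Agent.TrialityTwo.StepL
open Cfsg.Agent.TrialityTwo.StepM
open Cfsg.Agent.Co2Type.Quad Cfsg.Agent.LargeExtra.Local Cfsg.Agent.LargeExtra.Base

theorem tri_word : ∀ k < 7, tri (2 + k) = cp (cp (ppow pd (7 - k)) pe) (ppow pd k) := by decide +kernel

theorem sg_facts : ∀ s < 3, vp (sg s) = true ∧ gt (sg s) 0 = 0 ∧
    (∀ i < 9, gt (cp (sg s) pd) i = gt (cp (ppow pd (2 ^ s)) (sg s)) i) ∧
    (∀ i < 9, gt (cp (sg s) pe) i = gt (cp pe (sg s)) i) ∧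
    (∀ i < 9, gt (cp (sg s) pn) i = gt (cp pn (sg s)) i) := by decide +kernel

/-- inverses of the codes -/
def cpinv (s : ℕ) : ℕ → ℕ
  | 0 => cp (sg ((3 - s) % 3)) (ppow pdi (2 ^ s))
  | 1 => cp (sg ((3 - s) % 3)) pe
  | _ => cp (sg ((3 - s) % 3)) pn

theorem cpinv_facts : ∀ s < 3,
    (vp (cp (ppow pd (2 ^ s)) (sg s)) = true ∧ vp (cpinv s 0) = true ∧
      ∀ i < 9, gt (cpinv s 0) i < 9 ∧ gt (cp (ppow pd (2 ^ s)) (sg s)) (gt (cpinv s 0) i) = i) ∧
    (vp (cp pe (sg s)) = true ∧ vp (cpinv s 1) = true ∧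
      ∀ i < 9, gt (cpinv s 1) i < 9 ∧ gt (cp pe (sg s)) (gt (cpinv s 1) i) = i) ∧
    (vp (cp pn (sg s)) = true ∧ vp (cpinv s 2) = true ∧
      ∀ i < 9, gt (cpinv s 2) i < 9 ∧ gt (cp pn (sg s)) (gt (cpinv s 2) i) = i) := by decide +kernel

theorem vppow : ∀ s < 3, vp (ppow pd (2 ^ s)) = true := by decide +kernel

section

variable {G : Type*} [Group G] {Q A : Subgroup G} {z a' : G} {b a : ℕ → G} {d e n t : G}

/-- Every element of `C(z)` acts as a power of the Frobenius map modulo a subgroup inducing `L₂(8)`. -/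
theorem norm_C0 (L : Lab Q z b) (hu : Re z b pu) (C0 : Subgroup G) (h0 : ∀ c ∈ C0, c * z = z * c)
    (hd : ∃ c ∈ C0, Act z b c pd) (he : ∃ c ∈ C0, Act z b c pe) (hn : ∃ c ∈ C0, Act z b c pn) {c : G}
    (hc : c * z = z * c) : ∃ c0 ∈ C0, ∃ s < 3, Act z b (c0 * c) (sg s) := by
  have hz := L.ctx.nine.zz
  -- codes induced by `C0`
  have R1 : ∀ {p q : ℕ}, wp q = true → (∃ c ∈ C0, Act z b c p) → (∃ c ∈ C0, Act z b c q) →
      ∃ c ∈ C0, Act z b c (cp p q) := by
    rintro p q hq ⟨c, hc, hcp⟩ ⟨c', hc', hcq⟩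
    exact ⟨c * c', mul_mem hc hc', act_mul (h0 c hc) hz hcp hcq fun i hi => wp_lt hq hi⟩
  have hwd : wp pd = true := by decide +kernel
  have hwe : wp pe = true := by decide +kernel
  have hwpow : ∀ m, wp (ppow pd m) = true := by
    intro m
    induction m with
    | zero => show wp idp = true; decide +kernel
    | succ m ih => exact wcp ih hwd
  have Rid : ∃ c ∈ C0, Act z b c idp := ⟨1, one_mem _, Act.one⟩
  have Rpow : ∀ m, ∃ c ∈ C0, Act z b c (ppow pd m) := by
    intro m
    induction m with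
    | zero => exact Rid
    | succ m ih => exact R1 hwd ih hd
  have Rtri : ∀ j < 9, 1 ≤ j → ∃ c ∈ C0, Act z b c (tri j) := by
    intro j hj hj1
    rcases Nat.lt_or_ge j 2 with h | h
    · have : j = 1 := by omega
      rw [this]; exact Rid
    · obtain ⟨k, rfl⟩ : ∃ k, j = 2 + k := ⟨j - 2, by omega⟩
      rw [tri_word k (by omega)]
      exact R1 (hwpow k) (R1 hwe (Rpow _) he) (Rpow _)
  obtain ⟨p, hp, hcp⟩ := L.act c hc
  have hR : Re z b p := ⟨hp, c, hc, hcp⟩
  have hlt : ∀ i < 9, gt p i < 9 := fun i hi => wp_lt hp hi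
  -- move the image of `∞` back
  obtain ⟨k, hk⟩ : ∃ k, k = gt p 0 := ⟨_, rfl⟩
  have hk9 : k < 9 := by rw [hk]; exact hlt 0 (by norm_num)
  obtain ⟨a1, a2, a3⟩ := q0_facts k hk9
  obtain ⟨cq, hcq, hcq'⟩ : ∃ c ∈ C0, Act z b c (q0 k) := by
    rcases Nat.eq_zero_or_pos k with h | h
    · have hb : Nat.beq k 0 = true := by rw [h]; rfl
      unfold q0
      rw [hb, cond_true]; exact Rid
    · have hb : Nat.beq k 0 = false := by
        rw [Bool.eq_false_iff]
        intro h'
        have := Nat.eq_of_beq_eq_true h'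
        omega
      unfold q0
      rw [hb, cond_false]; exact R1 (wtri k hk9) hn (Rtri k hk9 h)
  obtain ⟨p1, hp1⟩ : ∃ p1, p1 = cp (q0 k) p := ⟨_, rfl⟩
  have hR1 : Act z b (cq * c) p1 := by rw [hp1]; exact act_mul (h0 _ hcq) hz hcq' hcp hlt
  have hw1 : wp p1 = true := by rw [hp1]; exact wcp a1 hp
  have g1 : ∀ i < 9, gt p1 i = gt (q0 k) (gt p i) := fun i hi => by rw [hp1]; exact gt_cp _ _ hi
  have p10 : gt p1 0 = 0 := by rw [g1 0 (by norm_num), ← hk]; exact a2
  have hlt1 : ∀ i < 9, gt p1 i < 9 := fun i hi => wp_lt hw1 hi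
  -- move the image of `0` back
  obtain ⟨j, hj⟩ : ∃ j, j = gt p1 1 := ⟨_, rfl⟩
  have hj9 : j < 9 := by rw [hj]; exact hlt1 1 (by norm_num)
  have hj1 : 1 ≤ j := by
    by_contra hcon
    have := wp_inj hw1 (by norm_num : (1 : ℕ) < 9) (by norm_num : (0 : ℕ) < 9) (by omega)
    omega
  obtain ⟨c1, c2⟩ := trj_facts j hj9 hj1
  obtain ⟨ct, hct, hct'⟩ := Rtri j hj9 hj1
  obtain ⟨p2, hp2⟩ : ∃ p2, p2 = cp (tri j) p1 := ⟨_, rfl⟩
  have hR2 : Act z b (ct * (cq * c)) p2 := by rw [hp2]; exact act_mul (h0 _ hct) hz hct' hR1 hlt1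
  have hw2 : wp p2 = true := by rw [hp2]; exact wcp (wtri j hj9) hw1
  have g2 : ∀ i < 9, gt p2 i = gt (tri j) (gt p1 i) := fun i hi => by rw [hp2]; exact gt_cp _ _ hi
  have p20 : gt p2 0 = 0 := by rw [g2 0 (by norm_num), p10, c1]
  have p21 : gt p2 1 = 1 := by rw [g2 1 (by norm_num), ← hj]; exact c2
  have hlt2 : ∀ i < 9, gt p2 i < 9 := fun i hi => wp_lt hw2 hi
  -- move the image of `1` back
  obtain ⟨m, hm, hm7⟩ : ∃ m, gt p2 2 = 2 + m ∧ m < 7 := by
    have h9 := hlt2 2 (by norm_num)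
    have n0 : gt p2 2 ≠ 0 := fun h => by
      have := wp_inj hw2 (by norm_num : (2 : ℕ) < 9) (by norm_num : (0 : ℕ) < 9) (by rw [h, p20])
      omega
    have n1 : gt p2 2 ≠ 1 := fun h => by
      have := wp_inj hw2 (by norm_num : (2 : ℕ) < 9) (by norm_num : (1 : ℕ) < 9) (by rw [h, p21])
      omega
    exact ⟨gt p2 2 - 2, by omega, by omega⟩
  obtain ⟨d1, d2, d3, d4, d5⟩ := pow_facts m hm7
  obtain ⟨cd, hcd, hcd'⟩ := Rpow m
  obtain ⟨p3, hp3⟩ : ∃ p3, p3 = cp (ppow pd m) p2 := ⟨_, rfl⟩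
  have hR3 : Act z b (cd * (ct * (cq * c))) p3 := by rw [hp3]; exact act_mul (h0 _ hcd) hz hcd' hR2 hlt2
  have hw3 : wp p3 = true := by rw [hp3]; exact wcp (hwpow m) hw2
  have g3 : ∀ i < 9, gt p3 i = gt (ppow pd m) (gt p2 i) := fun i hi => by rw [hp3]; exact gt_cp _ _ hi
  have hzc : (cd * (ct * (cq * c))) * z = z * (cd * (ct * (cq * c))) :=
    comm_mul (h0 _ hcd) (comm_mul (h0 _ hct) (comm_mul (h0 _ hcq) hc))
  obtain ⟨s, hs, hs'⟩ := cand_of L hu ⟨hw3, _, hzc, hR3⟩ (by rw [g3 0 (by norm_num), p20, d2])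
    (by rw [g3 1 (by norm_num), p21, d3]) (by rw [g3 2 (by norm_num), hm, d4])
  refine ⟨cd * (ct * cq), mul_mem hcd (mul_mem hct hcq), s, hs, ?_⟩
  have e1 : cd * (ct * cq) * c = cd * (ct * (cq * c)) := by group
  rw [e1]
  exact hR3.congr hs'

theorem mem_normalizer_of [Finite G] (H : Subgroup G) {x : G} (hx : ∀ y ∈ H, x * y * x⁻¹ ∈ H) :
    x ∈ Subgroup.normalizer (H : Set G) := by
  rw [Subgroup.mem_normalizer_iff]
  intro y
  refine ⟨hx y, fun hy => ?_⟩
  let f : H → H := fun y => ⟨x * y * x⁻¹, hx y y.2⟩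
  have hf : Function.Injective f := by
    intro y1 y2 h12
    have : x * (y1 : G) * x⁻¹ = x * y2 * x⁻¹ := congrArg Subtype.val h12
    exact Subtype.ext (mul_left_cancel (mul_right_cancel this))
  obtain ⟨y', hy'⟩ := Finite.injective_iff_surjective.1 hf ⟨x * y * x⁻¹, hy⟩
  have : x * (y' : G) * x⁻¹ = x * y * x⁻¹ := congrArg Subtype.val hy'
  have h2 : (y' : G) = y := mul_left_cancel (mul_right_cancel this)
  rw [← h2]; exact y'.2

/-- **Generation.** -/
theorem gen [Finite G] [IsSimpleGroup G] (h : Cfsg.Agent.TypeD4Two.NinePair.Hyp Q z A a') (L : Lab Q z a)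
    (hu : Re z a pu) (hPG : HPG z a) (g : Gens z a d e n) (hT : RelT d e n (a 0) t) (htz : t * z * t = a 0) :
    Subgroup.closure ({d, e, n, a 0, t} : Set G) = ⊤ := by
  have X := L.ctx
  have nn := X.nine
  set C0 := Subgroup.closure ({d, e, n, a 0} : Set G) with hC0
  set H := Subgroup.closure ({d, e, n, a 0, t} : Set G) with hH
  have hle : C0 ≤ H := by
    apply Subgroup.closure_mono
    intro x hx
    simp only [Set.mem_insert_iff, Set.mem_singleton_iff] at hx ⊢
    tauto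
  have md : d ∈ C0 := Subgroup.subset_closure (by simp)
  have me : e ∈ C0 := Subgroup.subset_closure (by simp)
  have mn : n ∈ C0 := Subgroup.subset_closure (by simp)
  have ma : a 0 ∈ C0 := Subgroup.subset_closure (by simp)
  have mt : t ∈ H := Subgroup.subset_closure (by simp)
  have mb : a 1 ∈ C0 := by
    rw [← bb_eq g]
    exact mul_mem (mul_mem mn ma) mn
  have mai : ∀ i < 9, a i ∈ C0 := by
    intro i hi
    rcases Nat.lt_or_ge i 2 with h1 | h1
    · interval_cases i
      · exact ma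
      · exact mb
    · obtain ⟨k, rfl⟩ : ∃ k, i = 2 + k := ⟨i - 2, by omega⟩
      rw [← cc_eq g (by omega)]
      unfold cc
      rw [bb_eq g]
      exact mul_mem (mul_mem (inv_mem (pow_mem md _)) (mul_mem (mul_mem me mb) me)) (pow_mem md _)
  have mz : z ∈ C0 := by
    rw [← zc_eq nn g]
    unfold zc
    rw [bb_eq g]
    exact mul_mem (mul_mem (mul_mem ma mb) ma) mb
  have hQ : Q ≤ C0 := by
    intro x hx
    obtain ⟨k, -, rfl⟩ := exists_ph nn X.large.z_mem X.mem X.card hx
    exact ph_mem mz mai k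
  have h0 : ∀ c ∈ C0, c * z = z * c := by
    have : C0 ≤ Subgroup.centralizer ({z} : Set G) := by
      rw [hC0, Subgroup.closure_le]
      intro x hx
      rw [SetLike.mem_coe, Subgroup.mem_centralizer_singleton_iff]
      simp only [Set.mem_insert_iff, Set.mem_singleton_iff] at hx
      rcases hx with rfl | rfl | rfl | rfl
      · exact g.dz
      · exact g.ez
      · exact g.nz
      · exact nn.comm 0 (by norm_num)
    intro c hc
    exact Subgroup.mem_centralizer_singleton_iff.1 (this hc)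
  have hzz := nn.zz
  have hti : t⁻¹ = t := inv_eq_of_mul_eq_one_left hT.t2
  have hta : t * a 0 * t = z := by
    rw [← htz]
    calc t * (t * z * t) * t = (t * t) * z * (t * t) := by group
      _ = z := by rw [hT.t2]; group
  -- elements inducing powers of the Frobenius map normalise `H`
  have key : ∀ x, x * z = z * x → ∀ s < 3, Sl a x (sg s) → x ∈ Subgroup.normalizer (H : Set G) := by
    intro x hxz s hs hx
    obtain ⟨v1, v2, v3, v4, v5⟩ := sg_facts s hs
    obtain ⟨⟨w1, w2, w3⟩, ⟨w4, w5, w6⟩, ⟨w7, w8, w9⟩⟩ := cpinv_facts s hs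
    have hd2 := Sl.pow g.d_sl vpd (2 ^ s)
    have ed : x * d = d ^ (2 ^ s) * x ∨ x * d = z * (d ^ (2 ^ s) * x) :=
      eq_or X (comm_mul (comm_pow g.dz _) hxz) (comm_mul hxz g.dz) (hd2.mul hx v1)
        ((hx.mul g.d_sl vpd).congr v3) w1 w3 w2
    have ee : x * e = e * x ∨ x * e = z * (e * x) :=
      eq_or X (comm_mul g.ez hxz) (comm_mul hxz g.ez) (g.e_sl.mul hx v1)
        ((hx.mul g.e_sl vpe).congr v4) w4 w6 w5
    have en : x * n = n * x ∨ x * n = z * (n * x) :=
      eq_or X (comm_mul g.nz hxz) (comm_mul hxz g.nz) (g.n_sl.mul hx v1)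
        ((hx.mul g.n_sl vpn).congr v5) w7 w9 w8
    have ea : x * a 0 * x⁻¹ = a 0 := by
      have := hx 0 (by norm_num)
      rwa [v2] at this
    -- exact value of the conjugate of `d`
    have ed' : x * d * x⁻¹ = d ^ (2 ^ s) := by
      rcases ed with h1 | h1
      · rw [h1]; group
      · exfalso
        apply nn.z_ne
        have h2 : x * d * x⁻¹ = z * d ^ (2 ^ s) := by rw [h1]; group
        have h3 : (x * d * x⁻¹) ^ 7 = 1 := by
          have : (x * d * x⁻¹) ^ 7 = x * d ^ 7 * x⁻¹ := conj_pow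
          rw [this, g.rel.d7]; group
        have hcomm : Commute z (d ^ (2 ^ s)) := (comm_pow g.dz _).symm
        rw [h2, hcomm.mul_pow, ← pow_mul, mul_comm (2 ^ s) 7, pow_mul, g.rel.d7, one_pow, mul_one,
          show (7 : ℕ) = 2 + 2 + 2 + 1 from rfl, pow_add, pow_add, pow_add, pow_one, pow_two, hzz] at h3
        simpa using h3
    -- the conjugate of `t`
    set t' := x * t * x⁻¹ with ht'
    have ht'd : t' * d = d * t' := by
      have h1 : t' * d ^ (2 ^ s) = d ^ (2 ^ s) * t' := by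
        rw [← ed', ht']
        calc x * t * x⁻¹ * (x * d * x⁻¹) = x * (t * d) * x⁻¹ := by group
          _ = x * (d * t) * x⁻¹ := by rw [hT.td]
          _ = _ := by group
      obtain ⟨j, hj⟩ : ∃ j, d = (d ^ (2 ^ s)) ^ j := by
        interval_cases s
        · exact ⟨1, by simp⟩
        · refine ⟨4, ?_⟩
          rw [← pow_mul, show 2 ^ 1 * 4 = 7 + 1 from rfl, pow_add, g.rel.d7, one_mul, pow_one]
        · refine ⟨2, ?_⟩
          rw [← pow_mul, show 2 ^ 2 * 2 = 7 + 1 from rfl, pow_add, g.rel.d7, one_mul, pow_one]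
      have h2 : t' * (d ^ (2 ^ s)) ^ j = (d ^ (2 ^ s)) ^ j * t' := (comm_pow h1.symm j).symm
      rwa [← hj] at h2
    have hxz' : x⁻¹ * z * x = z := by
      calc x⁻¹ * z * x = x⁻¹ * (z * x) := by group
        _ = x⁻¹ * (x * z) := by rw [hxz]
        _ = z := by group
    have hxa' : x⁻¹ * a 0 * x = a 0 := by
      calc x⁻¹ * a 0 * x = x⁻¹ * (x * a 0 * x⁻¹) * x := by rw [ea]
        _ = a 0 := by group
    have ht't' : t'⁻¹ = t' := by
      rw [ht', mul_inv_rev, mul_inv_rev, hti]; group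
    have ht'z : t' * z * t' = a 0 := by
      calc t' * z * t' = t' * z * t'⁻¹ := by rw [ht't']
        _ = x * (t * (x⁻¹ * z * x) * t⁻¹) * x⁻¹ := by rw [ht']; group
        _ = a 0 := by rw [hxz', hti, htz, ea]
    have ht'a : t' * a 0 * t' = z := by
      calc t' * a 0 * t' = t' * a 0 * t'⁻¹ := by rw [ht't']
        _ = x * (t * (x⁻¹ * a 0 * x) * t⁻¹) * x⁻¹ := by rw [ht']; group
        _ = x * z * x⁻¹ := by rw [hxa', hti, hta]
        _ = z := by rw [hxz]; group
    have ht't : t' * t ∈ C0 := by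
      have q1 : (t' * t) * z = z * (t' * t) := by
        have : (t' * t) * z * (t' * t)⁻¹ = z := by
          calc (t' * t) * z * (t' * t)⁻¹ = t' * (t * z * t⁻¹) * t'⁻¹ := by group
            _ = z := by rw [hti, htz, ht't', ht'a]
        calc (t' * t) * z = ((t' * t) * z * (t' * t)⁻¹) * (t' * t) := by group
          _ = _ := by rw [this]
      have q2 : (t' * t) * a 0 = a 0 * (t' * t) := by
        have : (t' * t) * a 0 * (t' * t)⁻¹ = a 0 := by
          calc (t' * t) * a 0 * (t' * t)⁻¹ = t' * (t * a 0 * t⁻¹) * t'⁻¹ := by group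
            _ = a 0 := by rw [hti, hta, ht't', ht'z]
        calc (t' * t) * a 0 = ((t' * t) * a 0 * (t' * t)⁻¹) * (t' * t) := by group
          _ = _ := by rw [this]
      have q3 : (t' * t) * d = d * (t' * t) := comm_mul ht'd hT.td
      obtain ⟨v, i, hvi, hv⟩ := cent_d X g hPG q1 q2 q3
      rw [hvi]
      refine mul_mem ?_ (pow_mem md _)
      rcases hv with h1 | h1 | h1 | h1
      · rw [h1]; exact one_mem _
      · rw [h1]; exact ma
      · rw [h1]; exact mz
      · rw [h1]; exact mul_mem mz ma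
    have ht'H : t' ∈ H := by
      have : t' = (t' * t) * t⁻¹ := by group
      rw [this]
      exact mul_mem (hle ht't) (inv_mem mt)
    -- conjugation by `x` maps `H` into `H`
    have hzH : z ∈ H := hle mz
    have cd' : x * d * x⁻¹ ∈ H := by rw [ed']; exact hle (pow_mem md _)
    have ce' : x * e * x⁻¹ ∈ H := by
      rcases ee with h1 | h1
      · have : x * e * x⁻¹ = e := by rw [h1]; group
        rw [this]; exact hle me
      · have : x * e * x⁻¹ = z * e := by rw [h1]; group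
        rw [this]; exact hle (mul_mem mz me)
    have cn' : x * n * x⁻¹ ∈ H := by
      rcases en with h1 | h1
      · have : x * n * x⁻¹ = n := by rw [h1]; group
        rw [this]; exact hle mn
      · have : x * n * x⁻¹ = z * n := by rw [h1]; group
        rw [this]; exact hle (mul_mem mz mn)
    apply mem_normalizer_of
    have hmap : H ≤ H.comap (MulAut.conj x).toMonoidHom := by
      rw [hH, Subgroup.closure_le]
      intro y hy
      rw [SetLike.mem_coe, Subgroup.mem_comap]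
      show x * y * x⁻¹ ∈ H
      simp only [Set.mem_insert_iff, Set.mem_singleton_iff] at hy
      rcases hy with rfl | rfl | rfl | rfl | rfl
      · exact cd'
      · exact ce'
      · exact cn'
      · rw [ea]; exact hle ma
      · exact ht'H
    intro y hy
    exact hmap hy
  -- `C(z)` normalises `H`
  have hHN : H ≤ Subgroup.normalizer (H : Set G) := Subgroup.le_normalizer
  have hCN : Subgroup.centralizer ({z} : Set G) ≤ Subgroup.normalizer (H : Set G) := by
    intro c hc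
    have hcz : c * z = z * c := Subgroup.mem_centralizer_singleton_iff.1 hc
    obtain ⟨c0, hc0, s, hs, hact⟩ := norm_C0 L hu C0 h0 ⟨d, md, g.d_sl.act⟩ ⟨e, me, g.e_sl.act⟩
      ⟨n, mn, g.n_sl.act⟩ hcz
    have hc0z : (c0 * c) * z = z * (c0 * c) := comm_mul (h0 c0 hc0) hcz
    obtain ⟨k, -, hk⟩ := exists_sl nn hc0z (sg_facts s hs).1 hact
    have h1 := key _ (comm_mul (ph_comm_z nn k) hc0z) s hs hk
    have h2 : ph z a k ∈ Subgroup.normalizer (H : Set G) :=
      hHN (hle (ph_mem mz mai k))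
    have h3 : c0 ∈ Subgroup.normalizer (H : Set G) := hHN (hle hc0)
    have h4 : c = c0⁻¹ * ((ph z a k)⁻¹ * (ph z a k * (c0 * c))) := by group
    rw [h4]
    exact mul_mem (inv_mem h3) (mul_mem (inv_mem h2) h1)
  have htop : Subgroup.normalizer (H : Set G) = ⊤ := by
    refine h.closing _ hCN (hHN mt) ?_ ?_
    · rw [hti, htz]; exact nn.comm 0 (by norm_num)
    · rw [hti, htz]
      intro h1
      have h2 := anti' nn (i := 0) (j := 1) (by norm_num) (by norm_num) (by norm_num)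
      rw [h1] at h2
      have h3 : z * (a 1 * z) = (z * a 1) * z := by group
      rw [h3] at h2
      exact nn.z_ne (mul_eq_left.1 h2.symm)
  have hnorm : H.Normal := Subgroup.normalizer_eq_top_iff.1 htop
  rcases hnorm.eq_bot_or_eq_top with h1 | h1
  · exfalso
    apply d_ne nn g
    have : d ∈ H := hle md
    rw [h1] at this
    exact Subgroup.mem_bot.1 this
  · exact h1

/-- **Recognition of `³D₄(2)`.** -/
theorem main [Finite G] [IsSimpleGroup G] (h : Cfsg.Agent.TypeD4Two.NinePair.Hyp Q z A a') (K : Type*) [Field K]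
    [Fintype K] (hK : Fintype.card K = 8) : Nonempty (G ≃* Cfsg.Lie.twistedD4 K 2) := by
  obtain ⟨b, hb0, Lb⟩ := Cfsg.Agent.TypeD4Two.LabOf.exists_lab h
  obtain ⟨a, ha0, L, hu⟩ := StepL.exists_lab Lb
  have hPG := hpg L hu
  have X := L.ctx
  have nn := X.nine
  obtain ⟨-, c₁, h₁, h₁'⟩ := re_pd L hu
  obtain ⟨-, c₂, h₂, h₂'⟩ := re_pe L
  obtain ⟨-, c₃, h₃, h₃'⟩ := re_pn L hu
  obtain ⟨d, e, n, g⟩ := exists_gens X h₁ h₁' h₂ h₂' h₃ h₃'
  have haa : a 0 = a' := by rw [ha0, hb0]
  have p : Pair Q z A (a 0) := by rw [haa]; exact h.p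
  obtain ⟨t, hT, htz⟩ := exists_t X g hPG p
  have hgen := gen h L hu hPG g hT htz
  have h34 := OrderFour.order_three_four h X g hPG hT.t2 hT.td htz
  have h3 : (t * (n * t * n)) ^ 3 = 1 := by
    rcases h34 with h34 | h34
    · exact h34
    · exfalso
      have h5 := Cfsg.Agent.TypeD4Two.Bridge.mem_four hT h34
      have h6 : t * z = z * t := by
        have : Subgroup.closure ({d, e, n, a 0} : Set G) ≤ Subgroup.centralizer ({z} : Set G) := by
          rw [Subgroup.closure_le]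
          intro x hx
          rw [SetLike.mem_coe, Subgroup.mem_centralizer_singleton_iff]
          simp only [Set.mem_insert_iff, Set.mem_singleton_iff] at hx
          rcases hx with rfl | rfl | rfl | rfl
          · exact g.dz
          · exact g.ez
          · exact g.nz
          · exact nn.comm 0 (by norm_num)
        exact Subgroup.mem_centralizer_singleton_iff.1 (this h5)
      have h7 : a 0 = z := by
        rw [← htz, h6, mul_assoc, hT.t2, mul_one]
      exact h.p.ne (by rw [← haa]; exact h7)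
  have hR : Rel d e n (a 0) t := { hT with tn := h3 }
  have ha1 : a 0 ≠ 1 := by rw [haa]; exact h.p.la.z_ne
  obtain ⟨φ⟩ := Cfsg.Agent.TypeD4Two.Bridge.recognize hR ha1 K hK
  rw [hgen] at φ
  exact ⟨Subgroup.topEquiv.symm.trans φ⟩

end

end Cfsg.Agent.TrialityTwo.Main
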