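import Mathlib

/-!
# Relations for `³D₄(2)` (helper814)

`Q` : nine involutions `a_∞ = a`, `a_0 = n a n`, `a_{μ^i} = c i` (`i < 7`), pairwise with commutator `z`, product `z`;
`L₂(8) = ⟨d, e, n⟩` permutes them as on the projective line over `F₈`: `e : u ↦ u + 1`, `n : u ↦ 1/u`,
`x ↦ d⁻¹ x d : μ^i ↦ μ^(i+1)`, `μ³ = μ + 1`.
`t` commutes with `d` and swaps `z` and `a`.
-/

set_option autoImplicit false

namespace Cfsg.Agent.TrialityTwo

variable {G : Type*} [Group G]

/-- `a_0` -/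
def bb (n a : G) : G := n * a * n

/-- the central involution of `Q` -/
def zc (n a : G) : G := a * bb n a * a * bb n a

/-- `a_{μ^i}` -/
def cc (d e n a : G) (i : ℕ) : G := (d ^ i)⁻¹ * (e * bb n a * e) * d ^ i

/-- Relations of `L₂(8)` on `d, e, n`. -/
structure RelL (d e n : G) : Prop where
  d7 : d ^ 7 = 1
  e2 : e * e = 1
  n2 : n * n = 1
  e013 : e * (d⁻¹ * e * d) * ((d ^ 3)⁻¹ * e * d ^ 3) = 1
  ecomm : e * (d⁻¹ * e * d) = (d⁻¹ * e * d) * e
  nd : (n * d) * (n * d) = 1
  ne : (n * e) ^ 3 = 1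

/-- Relations of `2^(1+8) : L₂(8)` on `d, e, n, a`. -/
structure RelC (d e n a : G) : Prop extends RelL d e n where
  a2 : a * a = 1
  ad : a * d = d * a
  ae : a * e = e * a
  z2 : zc n a * zc n a = 1
  ze : zc n a * e = e * zc n a
  prod : a * bb n a * cc d e n a 0 * cc d e n a 1 * cc d e n a 2 * cc d e n a 3 * cc d e n a 4 *
    cc d e n a 5 * cc d e n a 6 = zc n a

/-- The relations involving `t`. -/
structure RelT (d e n a t : G) : Prop extends RelC d e n a where
  t2 : t * t = 1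
  td : t * d = d * t
  tz : t * zc n a * t = a
  bt : (bb n a * t) ^ 3 = 1
  te : t * e * t = cc d e n a 0 * cc d e n a 1 * cc d e n a 2 * cc d e n a 4 * zc n a
  tc : t * (cc d e n a 0 * cc d e n a 1 * cc d e n a 2 * cc d e n a 5) =
    (cc d e n a 0 * cc d e n a 1 * cc d e n a 2 * cc d e n a 5) * t

/-- All relations of `³D₄(2)`. -/
structure Rel (d e n a t : G) : Prop extends RelT d e n a t where
  tn : (t * (n * t * n)) ^ 3 = 1

end Cfsg.Agent.TrialityTwo
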