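import Cfsg.Agent.TrialityTwo.Perm
import Cfsg.Agent.TrialityTwo.Rel

/-!
# Lifting `L₂(8)` from the permutations of the nine points (helper814)
-/

set_option autoImplicit false

namespace Cfsg.Agent.TrialityTwo.Lift

open Cfsg.Agent.LargeExtra.Model Cfsg.Agent.LargeExtra.Pres Cfsg.Agent.TrialityTwo.Nine
open Cfsg.Agent.TrialityTwo.Perm
open Cfsg.Agent.Co2Type.Quad

/-- `u ↦ u + 1` -/
def pe : ℕ := 0x467385120
/-- `u ↦ 1/u` -/
def pn : ℕ := 0x345678201
/-- `u ↦ μ⁻¹ u` -/
def pd : ℕ := 0x765432810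
/-- `u ↦ μ u` -/
def pdi : ℕ := 0x287654310

/-- powers of a code -/
def ppow (p : ℕ) : ℕ → ℕ
  | 0 => idp
  | k + 1 => cp (ppow p k) p

/-- The large extraspecial group with its nine points. -/
structure _root_.Cfsg.Agent.TrialityTwo.Ctx {G : Type*} [Group G] (Q : Subgroup G) (z : G) (a : ℕ → G) : Prop where
  large : Large Q z
  nine : Nine z a
  mem : ∀ i < 9, a i ∈ Q
  card : Nat.card Q = 2 ^ 9

section signs

variable {G : Type*} [Group G] {z : G}

/-- `x y = z^s y x` -/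
def SC (z : G) (s : Bool) (x y : G) : Prop := x * y = zp z s * (y * x)

theorem zp_comm' {x : G} (h : x * z = z * x) (s : Bool) : x * zp z s = zp z s * x := zp_comm h s

theorem SC.mul_right {s s' : Bool} {x y w : G} (hz : z * z = 1) (hy : y * z = z * y)
    (h : SC z s x y) (h' : SC z s' x w) : SC z (s ^^ s') x (y * w) := by
  unfold SC at *
  rw [zp_xor hz, ← mul_assoc, h, mul_assoc, mul_assoc, h', ← mul_assoc y, zp_comm hy]
  simp only [mul_assoc]

theorem SC.inv_right {s : Bool} {x y : G} (hz : z * z = 1) (hy : y * z = z * y)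
    (h : SC z s x y) : SC z s x y⁻¹ := by
  unfold SC at *
  have h1 : zp z s * zp z s = 1 := by rw [← zp_xor hz]; cases s <;> rfl
  have h2 : y⁻¹ * zp z s = zp z s * y⁻¹ := by
    have := zp_comm hy s
    calc y⁻¹ * zp z s = y⁻¹ * (zp z s * y) * y⁻¹ := by group
      _ = y⁻¹ * (y * zp z s) * y⁻¹ := by rw [this]
      _ = _ := by group
  calc x * y⁻¹ = y⁻¹ * (y * x) * y⁻¹ := by group
    _ = y⁻¹ * ((zp z s * zp z s) * (y * x)) * y⁻¹ := by rw [h1, one_mul]
    _ = y⁻¹ * (zp z s * (x * y)) * y⁻¹ := by rw [h, ← mul_assoc (zp z s)]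
    _ = (y⁻¹ * zp z s) * x := by group
    _ = zp z s * (y⁻¹ * x) := by rw [h2, mul_assoc]

theorem SC.symm {s : Bool} {x y : G} (hz : z * z = 1) (h : SC z s x y) : SC z s y x := by
  unfold SC at *
  have h1 : zp z s * zp z s = 1 := by rw [← zp_xor hz]; cases s <;> rfl
  rw [h, ← mul_assoc, h1, one_mul]

theorem SC.self (x : G) : SC z false x x := by unfold SC; simp [zp]

theorem SC.conj {s : Bool} {x y d : G} (hd : d * z = z * d) (h : SC z s x y) :
    SC z s (d⁻¹ * x * d) (d⁻¹ * y * d) := by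
  unfold SC at *
  have h2 : d⁻¹ * zp z s = zp z s * d⁻¹ := by
    have := zp_comm hd s
    calc d⁻¹ * zp z s = d⁻¹ * (zp z s * d) * d⁻¹ := by group
      _ = d⁻¹ * (d * zp z s) * d⁻¹ := by rw [this]
      _ = _ := by group
  calc d⁻¹ * x * d * (d⁻¹ * y * d) = d⁻¹ * (x * y) * d := by group
    _ = (d⁻¹ * zp z s) * (y * x) * d := by rw [h]; group
    _ = _ := by rw [h2]; group

/-- The translations commute and are involutions. -/
theorem translations {d e : G} (hz : z * z = 1) (hz1 : z ≠ 1) (hd : d * z = z * d) (he : e * z = z * e)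
    (hd7 : d ^ 7 = 1) (h : e * (d⁻¹ * e * d) * ((d ^ 3)⁻¹ * e * d ^ 3) = 1)
    (hs : ∃ s, SC z s e (d⁻¹ * e * d)) (hq : e * e = 1 ∨ e * e = z) :
    e * e = 1 ∧ e * (d⁻¹ * e * d) = (d⁻¹ * e * d) * e := by
  obtain ⟨s, hs⟩ := hs
  let f : ℕ → G := fun i => (d ^ i)⁻¹ * e * d ^ i
  have f0 : f 0 = e := by simp [f]
  have fs : ∀ i, f (i + 1) = d⁻¹ * f i * d := by
    intro i
    show (d ^ (i + 1))⁻¹ * e * d ^ (i + 1) = d⁻¹ * ((d ^ i)⁻¹ * e * d ^ i) * d
    rw [pow_succ]; group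
  have f1 : f 1 = d⁻¹ * e * d := by rw [fs, f0]
  have f7 : ∀ i, f (i + 7) = f i := by
    intro i
    show (d ^ (i + 7))⁻¹ * e * d ^ (i + 7) = (d ^ i)⁻¹ * e * d ^ i
    rw [pow_add, hd7, mul_one]
  have fz : ∀ i, f i * z = z * f i := by
    intro i
    induction i with
    | zero => rw [f0]; exact he
    | succ i ih =>
      rw [fs]
      have hdi : d⁻¹ * z = z * d⁻¹ := by
        calc d⁻¹ * z = d⁻¹ * (z * d) * d⁻¹ := by group
          _ = d⁻¹ * (d * z) * d⁻¹ := by rw [hd]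
          _ = _ := by group
      calc d⁻¹ * f i * d * z = d⁻¹ * f i * (d * z) := by group
        _ = d⁻¹ * (f i * z) * d := by rw [hd]; group
        _ = (d⁻¹ * z) * f i * d := by rw [ih]; group
        _ = z * (d⁻¹ * f i * d) := by rw [hdi]; group
  have h3 : ∀ i, f i * f (i + 1) * f (i + 3) = 1 := by
    intro i
    induction i with
    | zero => rw [f0, zero_add, zero_add, f1]; exact h
    | succ i ih =>
      have : f (i + 1) * f (i + 1 + 1) * f (i + 1 + 3) = d⁻¹ * (f i * f (i + 1) * f (i + 3)) * d := by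
        rw [fs i, fs (i + 1), show i + 1 + 3 = (i + 3) + 1 from rfl, fs (i + 3)]
        rw [fs i]; group
      rw [this, ih]; group
  have h3' : ∀ i, f (i + 3) = (f i * f (i + 1))⁻¹ := fun i => eq_inv_of_mul_eq_one_right (h3 i)
  have s1 : ∀ i, SC z s (f i) (f (i + 1)) := by
    intro i
    induction i with
    | zero => rw [f0, zero_add, f1]; exact hs
    | succ i ih =>
      have := ih.conj hd
      rwa [← fs, ← fs] at this
  have fz2 : ∀ i, f i * f (i + 1) * z = z * (f i * f (i + 1)) := by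
    intro i; rw [mul_assoc, fz, ← mul_assoc, fz, mul_assoc]
  have s3 : ∀ i, SC z s (f i) (f (i + 3)) := by
    intro i
    rw [h3']
    have := (SC.self (z := z) (f i)).mul_right hz (fz i) (s1 i)
    rw [Bool.false_xor] at this
    exact this.inv_right hz (fz2 i)
  have s2 : ∀ i, SC z s (f (i + 1)) (f (i + 3)) := by
    intro i
    rw [h3']
    have := ((s1 i).symm hz).mul_right hz (fz i) (SC.self (z := z) (f (i + 1)))
    rw [Bool.xor_false] at this
    exact this.inv_right hz (fz2 i)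
  have hs0 : s = false := by
    have a0 : SC z s (f 4) (f 0) := by
      have := s3 4
      rwa [f7 0] at this
    have a1 : SC z s (f 4) (f 1) := (s3 1).symm hz
    have a3 : SC z s (f 4) (f 3) := (s1 3).symm hz
    have b1 := (a0.mul_right hz (fz 0) a1).mul_right hz (fz2 0) a3
    rw [h3 0] at b1
    unfold SC at b1
    rw [mul_one, one_mul] at b1
    cases s with
    | false => rfl
    | true =>
      exfalso
      apply hz1
      have : f 4 = z * f 4 := b1
      exact mul_eq_right.1 this.symm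
  subst hs0
  have c01 : f 0 * f 1 = f 1 * f 0 := by have := s1 0; unfold SC at this; simpa [zp] using this
  have c03 : f 0 * f 3 = f 3 * f 0 := by have := s3 0; unfold SC at this; simpa [zp] using this
  have c13 : f 1 * f 3 = f 3 * f 1 := by have := s2 0; unfold SC at this; simpa [zp] using this
  have hq' : ∀ i, f i * f i = e * e := by
    intro i
    induction i with
    | zero => rw [f0]
    | succ i ih =>
      rw [fs]
      have : d⁻¹ * f i * d * (d⁻¹ * f i * d) = d⁻¹ * (f i * f i) * d := by group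
      rw [this, ih]
      rcases hq with h | h
      · rw [h]; group
      · rw [h, mul_assoc, ← hd]; group
  have hc : f 0 * f 1 * f 3 * (f 0 * f 1 * f 3) = (f 0 * f 0) * (f 1 * f 1) * (f 3 * f 3) := by
    calc f 0 * f 1 * f 3 * (f 0 * f 1 * f 3) = f 0 * f 1 * (f 3 * f 0) * f 1 * f 3 := by group
      _ = f 0 * f 1 * (f 0 * f 3) * f 1 * f 3 := by rw [c03]
      _ = f 0 * (f 1 * f 0) * (f 3 * f 1) * f 3 := by group
      _ = f 0 * (f 0 * f 1) * (f 1 * f 3) * f 3 := by rw [c01, c13]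
      _ = _ := by group
  have h30 := h3 0
  rw [zero_add] at h30
  rw [h30, hq', hq', hq', one_mul] at hc
  refine ⟨?_, ?_⟩
  · rcases hq with h | h
    · exact h
    · rw [h] at hc
      exfalso
      apply hz1
      rw [hz, one_mul] at hc
      exact hc.symm
  · rw [← f1, ← f0]; exact c01

end signs

section

variable {G : Type*} [Group G] {Q : Subgroup G} {z : G} {a : ℕ → G}

theorem vpd : vp pd = true := by decide +kernel
theorem vpdi : vp pdi = true := by decide +kernel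
theorem vpe : vp pe = true := by decide +kernel
theorem vpn : vp pn = true := by decide +kernel
theorem vpi : vp idp = true := by decide +kernel

theorem Sl.pow {c : G} {p : ℕ} (h : Sl a c p) (hp : vp p = true) (k : ℕ) : Sl a (c ^ k) (ppow p k) := by
  induction k with
  | zero => rw [pow_zero]; exact Sl.one
  | succ k ih => rw [pow_succ]; exact ih.mul h hp

theorem Sl.d_inv {d : G} (h : Sl a d pd) : Sl a d⁻¹ pdi :=
  h.inv (by decide +kernel)

theorem comm_inv {c z : G} (h : c * z = z * c) : c⁻¹ * z = z * c⁻¹ := by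
  calc c⁻¹ * z = c⁻¹ * (z * c) * c⁻¹ := by group
    _ = c⁻¹ * (c * z) * c⁻¹ := by rw [h]
    _ = _ := by group

theorem comm_mul {c d z : G} (h : c * z = z * c) (h' : d * z = z * d) : (c * d) * z = z * (c * d) := by
  rw [mul_assoc, h', ← mul_assoc, h, mul_assoc]

theorem comm_pow {c z : G} (h : c * z = z * c) (k : ℕ) : c ^ k * z = z * c ^ k := by
  induction k with
  | zero => simp
  | succ k ih => rw [pow_succ]; exact comm_mul ih h

theorem ph_comm_z (n : Nine z a) (k : ℕ) : ph z a k * z = z * ph z a k := by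
  rw [ph]
  have h1 := (rels n).prd_comm (le_refl 8) (k % 256)
  rw [mul_assoc, h1, ← mul_assoc, ← mul_assoc]
  congr 1
  cases k.testBit 8 <;> simp [zp]

/-- Two elements of `C(z)` inducing the same permutation without signs differ by `z`. -/
theorem triv [Finite G] (X : Ctx Q z a) {c : G} (hc : c * z = z * c) (h : Sl a c idp) : c = 1 ∨ c = z := by
  have hk : ∀ x ∈ Q, c * x = x * c := by
    intro x hx
    obtain ⟨k, hk, rfl⟩ := exists_ph X.nine X.large.z_mem X.mem X.card hx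
    have h1 := apk_spec X.nine hc (p := idp) (by decide +kernel) (fun i hi => h i (by omega)) k hk
    have h2 : ∀ k < 512, apk idp k 8 = k := by decide +kernel
    rw [h2 k hk] at h1
    calc c * ph z a k = (c * ph z a k * c⁻¹) * c := by group
      _ = _ := by rw [h1]
  exact X.large.cent c (X.large.self c hc hk) hk

theorem eq_or [Finite G] (X : Ctx Q z a) {c c' : G} {p q : ℕ} (hc : c * z = z * c) (hc' : c' * z = z * c')
    (h : Sl a c p) (h' : Sl a c' p) (hp : vp p = true) (hq : ∀ i < 9, gt q i < 9 ∧ gt p (gt q i) = i)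
    (hq' : vp q = true) : c' = c ∨ c' = z * c := by
  have h1 : Sl a (c⁻¹ * c') idp := by
    refine ((h.inv hq).mul h' hp).congr fun i hi => ?_
    rw [gt_cp _ _ hi, gt_idp hi]
    have h2 := hq (gt p i) (vp_lt hp hi)
    exact vp_inj hp (vp_lt hq' (vp_lt hp hi)) hi h2.2
  rcases triv X (comm_mul (comm_inv hc) hc') h1 with h2 | h2
  · left
    exact (inv_mul_eq_one.1 h2).symm
  · right
    rw [← hc, ← h2]; group

theorem exists_d [Finite G] (X : Ctx Q z a) {c : G} (hc : c * z = z * c) (h : Act z a c pd) :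
    ∃ d, d * z = z * d ∧ d ^ 7 = 1 ∧ Sl a d pd := by
  obtain ⟨k, -, hk⟩ := exists_sl X.nine hc vpd h
  set d := ph z a k * c with hd
  have hdz : d * z = z * d := comm_mul (ph_comm_z X.nine k) hc
  have h7 : Sl a (d ^ 7) idp := (Sl.pow hk vpd 7).congr (by decide +kernel)
  have hzz := X.nine.zz
  rcases triv X (comm_pow hdz 7) h7 with h1 | h1
  · exact ⟨d, hdz, h1, hk⟩
  · refine ⟨z * d, ?_, ?_, ?_⟩
    · exact comm_mul rfl hdz
    · have hcomm : Commute z d := hdz.symm
      rw [hcomm.mul_pow, h1, show (7 : ℕ) = 2 + 2 + 2 + 1 from rfl, pow_add, pow_add, pow_add, pow_one, pow_two, hzz]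
      simp [hzz]
    · intro i hi
      rw [← hk i hi, mul_inv_rev]
      calc z * d * a i * (d⁻¹ * z⁻¹) = z * (d * a i * d⁻¹) * z⁻¹ := by group
        _ = d * a i * d⁻¹ := by
          rw [hk i hi, ← X.nine.comm _ (vp_lt vpd hi)]; group

theorem Sl.z_mul (n : Nine z a) {c : G} {p : ℕ} (hp : vp p = true) (h : Sl a c p) : Sl a (z * c) p := by
  intro i hi
  rw [mul_inv_rev]
  calc z * c * a i * (c⁻¹ * z⁻¹) = z * (c * a i * c⁻¹) * z⁻¹ := by group
    _ = a (gt p i) := by
      rw [h i hi, ← n.comm _ (vp_lt hp hi)]; group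

/-- the permutation of a conjugate -/
theorem Sl.conj_d {c d : G} {p : ℕ} (h : Sl a c p) (hp : vp p = true) (hd : Sl a d pd) (k : ℕ)
    (hk : vp (ppow pd k) = true) :
    Sl a ((d ^ k)⁻¹ * c * d ^ k) (cp (cp (ppow pdi k) p) (ppow pd k)) := by
  rw [← inv_pow]
  exact ((Sl.pow (Sl.d_inv hd) vpdi k).mul h hp).mul (Sl.pow hd vpd k) hk

theorem exists_e [Finite G] (X : Ctx Q z a) {c d : G} (hc : c * z = z * c) (h : Act z a c pe)
    (hdz : d * z = z * d) (hd7 : d ^ 7 = 1) (hd : Sl a d pd) :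
    ∃ e, e * z = z * e ∧ Sl a e pe ∧ e * e = 1 ∧ e * (d⁻¹ * e * d) * ((d ^ 3)⁻¹ * e * d ^ 3) = 1 ∧
      e * (d⁻¹ * e * d) = (d⁻¹ * e * d) * e := by
  obtain ⟨k, -, hk⟩ := exists_sl X.nine hc vpe h
  set e' := ph z a k * c with he'
  have hez' : e' * z = z * e' := comm_mul (ph_comm_z X.nine k) hc
  have hzz := X.nine.zz
  -- permutation of the product
  have hprod : ∀ e : G, Sl a e pe → Sl a (e * (d⁻¹ * e * d) * ((d ^ 3)⁻¹ * e * d ^ 3)) idp := by
    intro e he
    have h1 : Sl a (d⁻¹ * e * d) (cp (cp pdi pe) pd) :=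
      ((Sl.d_inv hd).mul he vpe).mul hd vpd
    have h3 : Sl a ((d ^ 3)⁻¹ * e * d ^ 3) (cp (cp (ppow pdi 3) pe) (ppow pd 3)) := by
      rw [← inv_pow]
      exact ((Sl.pow (Sl.d_inv hd) vpdi 3).mul he vpe).mul (Sl.pow hd vpd 3) (by decide +kernel)
    exact ((he.mul h1 (by decide +kernel)).mul h3 (by decide +kernel)).congr (by decide +kernel)
  have hcz : ∀ e : G, e * z = z * e → (e * (d⁻¹ * e * d) * ((d ^ 3)⁻¹ * e * d ^ 3)) * z =
      z * (e * (d⁻¹ * e * d) * ((d ^ 3)⁻¹ * e * d ^ 3)) := fun e he =>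
    comm_mul (comm_mul he (comm_mul (comm_mul (comm_inv hdz) he) hdz))
      (comm_mul (comm_mul (comm_inv (comm_pow hdz 3)) he) (comm_pow hdz 3))
  -- choose the sign
  obtain ⟨e, hez, he, h013⟩ : ∃ e, e * z = z * e ∧ Sl a e pe ∧
      e * (d⁻¹ * e * d) * ((d ^ 3)⁻¹ * e * d ^ 3) = 1 := by
    rcases triv X (hcz e' hez') (hprod e' hk) with h1 | h1
    · exact ⟨e', hez', hk, h1⟩
    · refine ⟨z * e', comm_mul rfl hez', Sl.z_mul X.nine vpe hk, ?_⟩
      have hdi := comm_inv hdz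
      have hd3 := comm_pow hdz 3
      have hdi3 := comm_inv hd3
      calc z * e' * (d⁻¹ * (z * e') * d) * ((d ^ 3)⁻¹ * (z * e') * d ^ 3)
          = z * e' * ((d⁻¹ * z) * e' * d) * (((d ^ 3)⁻¹ * z) * e' * d ^ 3) := by group
        _ = z * (e' * z) * (d⁻¹ * e' * d * z) * ((d ^ 3)⁻¹ * e' * d ^ 3) := by
            rw [hdi, hdi3]; group
        _ = z * (z * e') * (z * (d⁻¹ * e' * d)) * ((d ^ 3)⁻¹ * e' * d ^ 3) := by
            rw [hez', comm_mul (comm_mul hdi hez') hdz]
        _ = (z * z) * (e' * z) * (d⁻¹ * e' * d) * ((d ^ 3)⁻¹ * e' * d ^ 3) := by group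
        _ = z * (e' * (d⁻¹ * e' * d) * ((d ^ 3)⁻¹ * e' * d ^ 3)) := by rw [hzz, hez']; group
        _ = 1 := by rw [h1, hzz]
  have hsc : ∃ s, SC z s e (d⁻¹ * e * d) := by
    have h1 : Sl a (d⁻¹ * e * d) (cp (cp pdi pe) pd) := ((Sl.d_inv hd).mul he vpe).mul hd vpd
    have h2 : Sl a (e * (d⁻¹ * e * d)) (cp pe (cp (cp pdi pe) pd)) := he.mul h1 (by decide +kernel)
    have h3 : Sl a ((d⁻¹ * e * d) * e) (cp pe (cp (cp pdi pe) pd)) :=
      (h1.mul he vpe).congr (by decide +kernel)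
    have hz1 : (d⁻¹ * e * d) * z = z * (d⁻¹ * e * d) := comm_mul (comm_mul (comm_inv hdz) hez) hdz
    rcases eq_or X (q := cp pe (cp (cp pdi pe) pd)) (comm_mul hz1 hez) (comm_mul hez hz1) h3 h2
      (by decide +kernel) (by decide +kernel) (by decide +kernel) with h4 | h4
    · exact ⟨false, by unfold SC; rw [h4]; simp [zp]⟩
    · exact ⟨true, h4⟩
  have hee : e * e = 1 ∨ e * e = z :=
    triv X (comm_mul hez hez) ((he.mul he vpe).congr (by decide +kernel))
  obtain ⟨h1, h2⟩ := translations hzz X.nine.z_ne hdz hez hd7 h013 hsc hee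
  exact ⟨e, hez, he, h1, h013, h2⟩

theorem exists_n [Finite G] (X : Ctx Q z a) {c d e : G} (hc : c * z = z * c) (h : Act z a c pn)
    (hdz : d * z = z * d) (hd7 : d ^ 7 = 1) (hd : Sl a d pd) (hez : e * z = z * e) (he : Sl a e pe)
    (hee : e * e = 1) :
    ∃ n, n * z = z * n ∧ Sl a n pn ∧ n * n = 1 ∧ (n * d) * (n * d) = 1 ∧ (n * e) ^ 3 = 1 := by
  obtain ⟨k, -, hk⟩ := exists_sl X.nine hc vpn h
  set n' := ph z a k * c with hn'
  have hnz' : n' * z = z * n' := comm_mul (ph_comm_z X.nine k) hc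
  have hzz := X.nine.zz
  obtain ⟨n, hnz, hn, hne⟩ : ∃ n, n * z = z * n ∧ Sl a n pn ∧ (n * e) ^ 3 = 1 := by
    have h3 : Sl a ((n' * e) ^ 3) idp :=
      (Sl.pow (hk.mul he vpe) (by decide +kernel) 3).congr (by decide +kernel)
    rcases triv X (comm_pow (comm_mul hnz' hez) 3) h3 with h1 | h1
    · exact ⟨n', hnz', hk, h1⟩
    · refine ⟨z * n', comm_mul rfl hnz', Sl.z_mul X.nine vpn hk, ?_⟩
      have hcomm : Commute z (n' * e) := (comm_mul hnz' hez).symm
      rw [mul_assoc, hcomm.mul_pow, h1, show (3 : ℕ) = 2 + 1 from rfl, pow_add, pow_two, pow_one, hzz, one_mul, hzz]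
  have hnn : n * n = 1 ∨ n * n = z :=
    triv X (comm_mul hnz hnz) ((hn.mul hn vpn).congr (by decide +kernel))
  have hnn1 : n * n = 1 := by
    have h1 : n * e * n * (n * e)⁻¹ = e * (n * n)⁻¹ := by
      have h2 : (n * e) * (n * e) * (n * e) = 1 := by rw [← hne, pow_succ, pow_two]
      have h3 : (n * e) * (n * e) = (n * e)⁻¹ := eq_inv_of_mul_eq_one_left h2
      have hei : e⁻¹ = e := inv_eq_of_mul_eq_one_left hee
      calc n * e * n * (n * e)⁻¹ = (n * e) * (n * e⁻¹) * n⁻¹ := by group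
        _ = (n * e) * (n * e) * n⁻¹ := by rw [hei]
        _ = (n * e)⁻¹ * n⁻¹ := by rw [h3]
        _ = e⁻¹ * (n * n)⁻¹ := by group
        _ = _ := by rw [hei]
    have hcen : ∀ x : G, x * z = z * x → x * (n * n) = (n * n) * x := by
      intro x hx
      rcases hnn with h | h
      · rw [h]; simp
      · rw [h]; exact hx
    have h2 : (n * e * n * (n * e)⁻¹) * (n * e * n * (n * e)⁻¹) = n * n := by
      calc (n * e * n * (n * e)⁻¹) * (n * e * n * (n * e)⁻¹) = (n * e) * (n * n) * (n * e)⁻¹ := by group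
        _ = (n * n) * ((n * e) * (n * e)⁻¹) := by rw [hcen _ (comm_mul hnz hez)]; group
        _ = n * n := by group
    rw [h1] at h2
    have h3 : (n * n)⁻¹ * (n * n)⁻¹ = 1 := by
      rcases hnn with h | h
      · rw [h]; group
      · rw [h, ← mul_inv_rev, hzz]; group
    have h4 : e * (n * n)⁻¹ = (n * n)⁻¹ * e := by
      have := hcen e hez
      calc e * (n * n)⁻¹ = (n * n)⁻¹ * ((n * n) * e) * (n * n)⁻¹ := by group
        _ = (n * n)⁻¹ * (e * (n * n)) * (n * n)⁻¹ := by rw [this]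
        _ = _ := by group
    rw [← h2]
    calc e * (n * n)⁻¹ * (e * (n * n)⁻¹) = e * ((n * n)⁻¹ * e) * (n * n)⁻¹ := by group
      _ = e * (e * (n * n)⁻¹) * (n * n)⁻¹ := by rw [h4]
      _ = (e * e) * ((n * n)⁻¹ * (n * n)⁻¹) := by group
      _ = 1 := by rw [hee, h3, one_mul]
  refine ⟨n, hnz, hn, hnn1, ?_, hne⟩
  have h1 : (n * d) * (n * d) = 1 ∨ (n * d) * (n * d) = z := by
    refine triv X (comm_mul (comm_mul hnz hdz) (comm_mul hnz hdz)) ?_
    exact ((hn.mul hd vpd).mul (hn.mul hd vpd) (by decide +kernel)).congr (by decide +kernel)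
  rcases h1 with h1 | h1
  · exact h1
  · exfalso
    apply X.nine.z_ne
    have hni : n⁻¹ = n := inv_eq_of_mul_eq_one_left hnn1
    have h2 : n * d * n⁻¹ = z * d⁻¹ := by
      rw [hni, ← h1]; group
    have h3 : (n * d * n⁻¹) ^ 7 = 1 := by
      have : (n * d * n⁻¹) ^ 7 = n * d ^ 7 * n⁻¹ := conj_pow
      rw [this, hd7]; group
    have hcomm : Commute z d⁻¹ := (comm_inv hdz).symm
    rw [h2, hcomm.mul_pow, inv_pow, hd7, inv_one, mul_one, show (7 : ℕ) = 2 + 2 + 2 + 1 from rfl, pow_add,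
      pow_add, pow_add, pow_one, pow_two, hzz] at h3
    simpa using h3

/-- `L₂(8)` with its generators. -/
structure _root_.Cfsg.Agent.TrialityTwo.Gens {G : Type*} [Group G] (z : G) (a : ℕ → G) (d e n : G) : Prop where
  dz : d * z = z * d
  ez : e * z = z * e
  nz : n * z = z * n
  d_sl : Sl a d pd
  e_sl : Sl a e pe
  n_sl : Sl a n pn
  rel : RelL d e n

theorem exists_gens [Finite G] (X : Ctx Q z a) {c₁ c₂ c₃ : G} (h₁ : c₁ * z = z * c₁) (h₁' : Act z a c₁ pd)
    (h₂ : c₂ * z = z * c₂) (h₂' : Act z a c₂ pe) (h₃ : c₃ * z = z * c₃) (h₃' : Act z a c₃ pn) :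
    ∃ d e n, Gens z a d e n := by
  obtain ⟨d, hdz, hd7, hd⟩ := exists_d X h₁ h₁'
  obtain ⟨e, hez, he, hee, h013, hcomm⟩ := exists_e X h₂ h₂' hdz hd7 hd
  obtain ⟨n, hnz, hn, hnn, hnd, hne⟩ := exists_n X h₃ h₃' hdz hd7 hd hez he hee
  exact ⟨d, e, n, hdz, hez, hnz, hd, he, hn, ⟨hd7, hee, hnn, h013, hcomm, hnd, hne⟩⟩

end

end Cfsg.Agent.TrialityTwo.Lift
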