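import Cfsg.Agent.LargeExtra.Pres

/-!
# Nine anticommuting involutions: coordinates of `2^(1+8)` (helper814)

`Nine z a` : involutions `a 0, …, a 8` with `a i * a j = z * (a j * a i)` (`i ≠ j`), `z` central of order two,
`a 8 = z * (a 0 * ⋯ * a 7)`.  The elements of the group generated are coded by `k < 512`: bits `0..7` the product
`∏ a i` (increasing `i`), bit `8` the factor `z`.  `mu` is the product of codes, fast in the kernel.
-/

set_option autoImplicit false

namespace Cfsg.Agent.TrialityTwo.Nine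

open Cfsg.Agent.LargeExtra.Model Cfsg.Agent.LargeExtra.Pres

/-- the commutator matrix of the nine-point group: all pairs of generators anticommute -/
def Bm (i : ℕ) : ℕ := 2 ^ i - 1

theorem triB : Tri Bm 8 := by decide +kernel
theorem nonB : Nondeg Bm 8 := by decide +kernel

/-- prefix parities: bit `j` is the parity of the bits `j+1, …, j+8` of `v` -/
def lp (v : ℕ) : ℕ :=
  Nat.xor (Nat.xor (Nat.xor (Nat.shiftRight v 1) (Nat.shiftRight (Nat.shiftRight v 1) 1))
      (Nat.shiftRight (Nat.xor (Nat.shiftRight v 1) (Nat.shiftRight (Nat.shiftRight v 1) 1)) 2))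
    (Nat.shiftRight (Nat.xor (Nat.xor (Nat.shiftRight v 1) (Nat.shiftRight (Nat.shiftRight v 1) 1))
      (Nat.shiftRight (Nat.xor (Nat.shiftRight v 1) (Nat.shiftRight (Nat.shiftRight v 1) 1)) 2)) 4)

/-- fold to the parity of the lowest eight bits -/
def pr8 (u : ℕ) : ℕ :=
  Nat.xor (Nat.xor (Nat.xor u (Nat.shiftRight u 4)) (Nat.shiftRight (Nat.xor u (Nat.shiftRight u 4)) 2))
    (Nat.shiftRight (Nat.xor (Nat.xor u (Nat.shiftRight u 4)) (Nat.shiftRight (Nat.xor u (Nat.shiftRight u 4)) 2)) 1)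

/-- the cocycle -/
def bt (v w : ℕ) : ℕ := Nat.land (pr8 (Nat.land (lp v) w)) 1

/-- product of codes -/
def mu (x y : ℕ) : ℕ :=
  Nat.xor (Nat.xor x y) (Nat.mul 256 (bt (Nat.land x 255) (Nat.land y 255)))

/-! ### the cocycle is the form of `XG Bm 8` -/

theorem lp_xor (v w : ℕ) : lp (v ^^^ w) = lp v ^^^ lp w := by
  have e : ∀ x : ℕ, lp x = (((x >>> 1) ^^^ (x >>> 1 >>> 1)) ^^^ (((x >>> 1) ^^^ (x >>> 1 >>> 1)) >>> 2)) ^^^
      ((((x >>> 1) ^^^ (x >>> 1 >>> 1)) ^^^ (((x >>> 1) ^^^ (x >>> 1 >>> 1)) >>> 2)) >>> 4) := fun _ => rfl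
  simp only [e, Nat.shiftRight_xor_distrib]
  generalize v >>> 1 >>> 1 >>> 2 >>> 4 = a1, v >>> 1 >>> 1 >>> 2 = a2, v >>> 1 >>> 1 >>> 4 = a3,
    v >>> 1 >>> 1 = a4, v >>> 1 >>> 2 >>> 4 = a5, v >>> 1 >>> 2 = a6, v >>> 1 >>> 4 = a7, v >>> 1 = a8
  generalize w >>> 1 >>> 1 >>> 2 >>> 4 = b1, w >>> 1 >>> 1 >>> 2 = b2, w >>> 1 >>> 1 >>> 4 = b3,
    w >>> 1 >>> 1 = b4, w >>> 1 >>> 2 >>> 4 = b5, w >>> 1 >>> 2 = b6, w >>> 1 >>> 4 = b7, w >>> 1 = b8
  ac_rfl

theorem pr8_xor (v w : ℕ) : pr8 (v ^^^ w) = pr8 v ^^^ pr8 w := by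
  have e : ∀ x : ℕ, pr8 x = ((x ^^^ (x >>> 4)) ^^^ ((x ^^^ (x >>> 4)) >>> 2)) ^^^
      (((x ^^^ (x >>> 4)) ^^^ ((x ^^^ (x >>> 4)) >>> 2)) >>> 1) := fun _ => rfl
  simp only [e, Nat.shiftRight_xor_distrib]
  generalize v >>> 4 >>> 2 >>> 1 = a1, v >>> 4 >>> 2 = a2, v >>> 4 >>> 1 = a3, v >>> 4 = a4,
    v >>> 2 >>> 1 = a5, v >>> 2 = a6, v >>> 1 = a7
  generalize w >>> 4 >>> 2 >>> 1 = b1, w >>> 4 >>> 2 = b2, w >>> 4 >>> 1 = b3, w >>> 4 = b4,
    w >>> 2 >>> 1 = b5, w >>> 2 = b6, w >>> 1 = b7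
  ac_rfl

theorem bt_eq (v w : ℕ) : bt v w = pr8 (lp v &&& w) &&& 1 := rfl

theorem bt_xor_left (v v' w : ℕ) : bt (v ^^^ v') w = bt v w ^^^ bt v' w := by
  simp only [bt_eq, lp_xor, Nat.and_xor_distrib_right, pr8_xor]

theorem bt_xor_right (v w w' : ℕ) : bt v (w ^^^ w') = bt v w ^^^ bt v w' := by
  simp only [bt_eq, Nat.and_xor_distrib_left, Nat.and_xor_distrib_right, pr8_xor]

theorem lin_ext (n : ℕ) (f : ℕ → Bool) (g : ℕ → ℕ)
    (hf : ∀ v w, f (v ^^^ w) = (f v ^^ f w)) (hg : ∀ v w, g (v ^^^ w) = g v ^^^ g w)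
    (h : ∀ i < n, g (2 ^ i) = (f (2 ^ i)).toNat) : ∀ v < 2 ^ n, g v = (f v).toNat := by
  have f0 : f 0 = false := by
    have := hf 0 0
    simpa using this
  have g0 : g 0 = 0 := by
    have := hg 0 0
    simpa using this
  have hx : ∀ a b : Bool, (a ^^ b).toNat = a.toNat ^^^ b.toNat := by decide
  induction n with
  | zero =>
    intro v hv
    have : v = 0 := by simpa using hv
    rw [this, f0, g0]; rfl
  | succ n ih =>
    intro v hv
    by_cases hb : v.testBit n = true
    · have h1 : v ^^^ 2 ^ n < 2 ^ n := by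
        apply Nat.lt_pow_two_of_testBit
        intro i hi
        rw [Nat.testBit_xor, Nat.testBit_two_pow]
        by_cases him : n = i
        · subst him; simp [hb]
        · have : v.testBit i = false :=
            Nat.testBit_lt_two_pow (lt_of_lt_of_le hv (Nat.pow_le_pow_right (by norm_num) (by omega)))
          simp [this, him]
      have h2 := ih (fun i hi => h i (by omega)) _ h1
      have h3 : v = (v ^^^ 2 ^ n) ^^^ 2 ^ n := by rw [Nat.xor_assoc, Nat.xor_self, Nat.xor_zero]
      rw [h3, hf, hg, h2, h n (by omega), hx]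
    · apply ih (fun i hi => h i (by omega))
      apply Nat.lt_pow_two_of_testBit
      intro i hi
      by_cases him : i = n
      · subst him; simpa using hb
      · exact Nat.testBit_lt_two_pow
          (lt_of_lt_of_le hv (Nat.pow_le_pow_right (by norm_num) (by omega)))

theorem bt_eq_bf {v w : ℕ} (hv : v < 256) (hw : w < 256) : bt v w = (bf Bm 8 v w).toNat := by
  have h0 : ∀ i < 8, ∀ j < 8, bt (2 ^ i) (2 ^ j) = (bf Bm 8 (2 ^ i) (2 ^ j)).toNat := by decide +kernel
  have h1 : ∀ i < 8, ∀ w < 2 ^ 8, bt (2 ^ i) w = (bf Bm 8 (2 ^ i) w).toNat := fun i hi =>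
    lin_ext 8 (fun w => bf Bm 8 (2 ^ i) w) (fun w => bt (2 ^ i) w)
      (fun v w => bf_xor_right _ _ _ _ _) (fun v w => bt_xor_right _ _ _) (h0 i hi)
  exact lin_ext 8 (fun v => bf Bm 8 v w) (fun v => bt v w) (fun v v' => bf_xor_left _ _ _ _ _)
    (fun v v' => bt_xor_left _ _ _) (fun i hi => h1 i hi w hw) v hv

/-! ### the structure -/

/-- Nine anticommuting involutions with product `z`. -/
structure _root_.Cfsg.Agent.TrialityTwo.Nine {G : Type*} [Group G] (z : G) (a : ℕ → G) : Prop where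
  z_ne : z ≠ 1
  zz : z * z = 1
  comm : ∀ i < 9, a i * z = z * a i
  sq : ∀ i < 9, a i * a i = 1
  anti : ∀ i < 9, ∀ j < i, a i * a j = z * (a j * a i)
  prod : a 8 = z * prd a 8 255

/-- the element with code `k` -/
def ph {G : Type*} [Group G] (z : G) (a : ℕ → G) (k : ℕ) : G := zp z (k.testBit 8) * prd a 8 (k % 256)

section

variable {G : Type*} [Group G] {z : G} {a : ℕ → G}

theorem rels (h : Nine z a) : Rels Bm 8 z a where
  zz := h.zz
  comm i hi := h.comm i (by omega)
  sq i hi := by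
    have e : ∀ i < 8, (Bm i).testBit i = false := by decide +kernel
    rw [e i hi, h.sq i (by omega)]; rfl
  cm i hi j hj := by
    have e : ∀ i < 8, ∀ j < i, (Bm i).testBit j = true := by decide +kernel
    rw [e i hi j hj, h.anti i (by omega) j hj]; rfl

theorem zp_comm' (h : Nine z a) (s : Bool) (v : ℕ) : prd a 8 v * zp z s = zp z s * prd a 8 v :=
  zp_comm ((rels h).prd_comm (le_refl 8) v) s

theorem ph_eq (h : Nine z a) {k : ℕ} (_hk : k < 512) :
    ph z a k = lift (rels h) triB ⟨⟨k % 256, Nat.mod_lt _ (by norm_num)⟩, k.testBit 8⟩ := rfl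

/-- decoding -/
def dec (k : ℕ) : XG Bm 8 := ⟨⟨k % 256, Nat.mod_lt _ (by norm_num)⟩, k.testBit 8⟩

theorem ph_dec (h : Nine z a) (k : ℕ) : ph z a k = lift (rels h) triB (dec k) := rfl

theorem land255 (x : ℕ) : Nat.land x 255 = x % 256 := by
  have := Nat.and_two_pow_sub_one_eq_mod x 8
  simpa using this

theorem bt_le (v w : ℕ) : bt v w = 0 ∨ bt v w = 1 := by
  have : bt v w = pr8 (lp v &&& w) % 2 := by
    rw [bt_eq, Nat.and_one_is_mod]
  omega

theorem mu_eq (x y : ℕ) : mu x y = x ^^^ y ^^^ 256 * bt (x % 256) (y % 256) := by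
  show Nat.xor (Nat.xor x y) (Nat.mul 256 (bt (Nat.land x 255) (Nat.land y 255))) = _
  rw [land255, land255]; rfl

theorem mu_lt {x y : ℕ} (hx : x < 512) (hy : y < 512) : mu x y < 512 := by
  rw [mu_eq]
  have h1 : x ^^^ y < 2 ^ 9 := Nat.xor_lt_two_pow (by simpa using hx) (by simpa using hy)
  have h2 : 256 * bt (x % 256) (y % 256) < 2 ^ 9 := by
    rcases bt_le (x % 256) (y % 256) with h | h <;> rw [h] <;> norm_num
  simpa using Nat.xor_lt_two_pow h1 h2

theorem dec_mu (x y : ℕ) : dec (mu x y) = dec x * dec y := by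
  have hb := bt_eq_bf (Nat.mod_lt x (by norm_num : 256 > 0)) (Nat.mod_lt y (by norm_num : 256 > 0))
  apply XG.ext'
  · rw [mul_v]
    show mu x y % 256 = (x % 256) ^^^ (y % 256)
    rw [mu_eq]
    apply Nat.eq_of_testBit_eq
    intro i
    have e1 : ∀ w : ℕ, (w % 256).testBit i = (decide (i < 8) && w.testBit i) := fun w =>
      Nat.testBit_mod_two_pow w 8 i
    rw [e1, Nat.testBit_xor, Nat.testBit_xor, Nat.testBit_xor, e1, e1]
    by_cases hi : i < 8
    · have h3 : (256 * bt (x % 256) (y % 256)).testBit i = false := by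
        rcases bt_le (x % 256) (y % 256) with h | h <;> rw [h]
        · simp
        · rw [mul_one]
          have : (2 ^ 8).testBit i = false := by
            rw [Nat.testBit_two_pow]; simp; omega
          simpa using this
      simp [hi, h3]
    · simp [hi]
  · rw [mul_s]
    show (mu x y).testBit 8 = (x.testBit 8 ^^ y.testBit 8 ^^ bf Bm 8 (x % 256) (y % 256))
    rw [mu_eq, Nat.testBit_xor, Nat.testBit_xor, hb]
    congr 1
    cases bf Bm 8 (x % 256) (y % 256) <;> rfl

theorem ph_mul (h : Nine z a) (x y : ℕ) : ph z a (mu x y) = ph z a x * ph z a y := by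
  rw [ph_dec h, ph_dec h, ph_dec h, dec_mu, map_mul]

theorem ph_zero : ph z a 0 = 1 := by
  show zp z false * prd a 8 0 = 1
  rw [prd_zero]; simp [zp]

theorem ph_z : ph z a 256 = z := by
  show zp z true * prd a 8 0 = z
  rw [prd_zero]; simp [zp]

theorem ph_255 (h : Nine z a) : ph z a 511 = a 8 := by
  show zp z true * prd a 8 255 = a 8
  rw [h.prod]; rfl

/-- the codes of the nine points -/
def ptc (i : ℕ) : ℕ := bif Nat.blt i 8 then Nat.shiftLeft 1 i else 511

theorem ph_ptc (h : Nine z a) {i : ℕ} (hi : i < 9) : ph z a (ptc i) = a i := by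
  rcases Nat.lt_or_ge i 8 with h8 | h8
  · have e : ptc i = 2 ^ i := by
      have : ∀ i < 8, ptc i = 2 ^ i := by decide +kernel
      exact this i h8
    have e1 : (2 ^ i).testBit 8 = false := by
      have : ∀ i < 8, (2 ^ i).testBit 8 = false := by decide +kernel
      exact this i h8
    have e2 : 2 ^ i % 256 = 2 ^ i := by
      apply Nat.mod_eq_of_lt
      have : ∀ i < 8, 2 ^ i < 256 := by decide +kernel
      exact this i h8
    rw [e, ph, e1, e2, prd_two_pow, if_pos h8]
    simp [zp]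
  · have : i = 8 := by omega
    subst this
    exact ph_255 h

theorem ph_inj (h : Nine z a) {x y : ℕ} (hx : x < 512) (hy : y < 512) (he : ph z a x = ph z a y) :
    x = y := by
  rw [ph_dec h, ph_dec h] at he
  have h1 := lift_injective (rels h) triB nonB h.z_ne he
  have h2 : x % 256 = y % 256 := congrArg (fun t : XG Bm 8 => t.v.1) h1
  have h3 : x.testBit 8 = y.testBit 8 := congrArg XG.s h1
  have e : ∀ k < 512, k = k % 256 + 256 * (k.testBit 8).toNat := by decide +kernel
  rw [e x hx, e y hy, h2, h3]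

theorem exists_code (h : Nine z a) (x : XG Bm 8) : ∃ k < 512, ph z a k = lift (rels h) triB x := by
  have e : ∀ v < 256, ∀ s : Bool, ((v + 256 * s.toNat) % 256 = v ∧ (v + 256 * s.toNat).testBit 8 = s) := by
    decide +kernel
  refine ⟨x.v.1 + 256 * x.s.toNat, ?_, ?_⟩
  · have := x.v.2
    have h2 : x.s.toNat ≤ 1 := Bool.toNat_le x.s
    have h3 : (x.v.1 : ℕ) < 2 ^ 8 := this
    omega
  · rw [ph_dec h]
    congr 1
    apply XG.ext'
    · exact (e _ x.v.2 x.s).1
    · exact (e _ x.v.2 x.s).2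

/-- Codes exhaust `Q` when `|Q| = 2^9`. -/
theorem exists_ph [Finite G] (h : Nine z a) {Q : Subgroup G} (hz : z ∈ Q) (ha : ∀ i < 9, a i ∈ Q)
    (hQ : Nat.card Q = 2 ^ 9) {x : G} (hx : x ∈ Q) : ∃ k < 512, ph z a k = x := by
  have hle : (lift (rels h) triB).range ≤ Q := by
    rintro _ ⟨y, rfl⟩
    rw [lift_apply]
    refine mul_mem ?_ ?_
    · unfold zp; split_ifs
      · exact hz
      · exact one_mem _
    · have : ∀ k ≤ 8, ∀ v, prd a k v ∈ Q := by
        intro k
        induction k with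
        | zero => intro _ v; exact one_mem _
        | succ k ih =>
          intro hk v
          refine mul_mem (ih (by omega) v) ?_
          unfold zp; split_ifs
          · exact ha k (by omega)
          · exact one_mem _
      exact this 8 (le_refl 8) _
  have hc : Nat.card (lift (rels h) triB).range = 2 ^ 9 := by
    rw [← Nat.card_congr (MonoidHom.ofInjective (lift_injective (rels h) triB nonB h.z_ne)).toEquiv]
    exact card_XG
  have he := Subgroup.eq_of_le_of_card_ge hle (by rw [hc, hQ])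
  rw [← he] at hx
  obtain ⟨y, rfl⟩ := hx
  exact exists_code h y

theorem ph_mem {Q : Subgroup G} (hz : z ∈ Q) (ha : ∀ i < 9, a i ∈ Q) (k : ℕ) :
    ph z a k ∈ Q := by
  refine mul_mem ?_ ?_
  · unfold zp; split_ifs
    · exact hz
    · exact one_mem _
  · have : ∀ k ≤ 8, ∀ v, prd a k v ∈ Q := by
      intro k
      induction k with
      | zero => intro _ v; exact one_mem _
      | succ k ih =>
        intro hk v
        refine mul_mem (ih (by omega) v) ?_
        unfold zp; split_ifs
        · exact ha k (by omega)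
        · exact one_mem _
    exact this 8 (le_refl 8) _

/-! ### the action of permutations -/

/-- digits of a code of a permutation of the nine points -/
def gt (p i : ℕ) : ℕ := Nat.land (Nat.shiftRight p (Nat.mul 4 i)) 15

/-- the image of a code under a permutation of the nine points -/
def apk (p x : ℕ) : ℕ → ℕ
  | 0 => Nat.land x 256
  | k + 1 => bif Nat.testBit x k then mu (apk p x k) (ptc (gt p k)) else apk p x k

theorem apk_spec (h : Nine z a) {c : G} (hc : c * z = z * c) {p : ℕ} (hp : ∀ i < 8, gt p i < 9)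
    (hca : ∀ i < 8, c * a i * c⁻¹ = a (gt p i)) (x : ℕ) (hx : x < 512) :
    c * ph z a x * c⁻¹ = ph z a (apk p x 8) := by
  have hz : ∀ s : Bool, c * zp z s * c⁻¹ = zp z s := by
    intro s; cases s
    · show c * 1 * c⁻¹ = 1; group
    · show c * z * c⁻¹ = z; rw [hc]; group
  have e : ∀ x < 512, Nat.land x 256 = (bif x.testBit 8 then 256 else 0) := by decide +kernel
  have key : ∀ k ≤ 8, ph z a (apk p x k) = zp z (x.testBit 8) * (c * prd a k x * c⁻¹) := by
    intro k
    induction k with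
    | zero =>
      intro _
      show ph z a (Nat.land x 256) = zp z (x.testBit 8) * (c * 1 * c⁻¹)
      rw [e x hx]
      cases x.testBit 8
      · show ph z a 0 = 1 * (c * 1 * c⁻¹)
        rw [ph_zero]; group
      · show ph z a 256 = z * (c * 1 * c⁻¹)
        rw [ph_z]; group
    | succ k ih =>
      intro hk
      have ih' := ih (by omega)
      show ph z a (bif x.testBit k then mu (apk p x k) (ptc (gt p k)) else apk p x k) =
        zp z (x.testBit 8) * (c * (prd a k x * zp (a k) (x.testBit k)) * c⁻¹)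
      cases hb : x.testBit k
      · show ph z a (apk p x k) = zp z (x.testBit 8) * (c * (prd a k x * 1) * c⁻¹)
        rw [mul_one, ih']
      · show ph z a (mu (apk p x k) (ptc (gt p k))) = zp z (x.testBit 8) * (c * (prd a k x * a k) * c⁻¹)
        rw [ph_mul h, ph_ptc h (hp k (by omega)), ih', ← hca k (by omega)]
        group
  rw [key 8 (le_refl 8)]
  have h1 : prd a 8 x = prd a 8 (x % 256) := by
    have : ∀ k ≤ 8, prd a k x = prd a k (x % 256) := by
      intro k
      induction k with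
      | zero => intro _; rfl
      | succ k ih =>
        intro hk
        show prd a k x * zp (a k) (x.testBit k) = prd a k (x % 256) * zp (a k) ((x % 256).testBit k)
        have : (x % 256).testBit k = x.testBit k := by
          have e1 := Nat.testBit_mod_two_pow x 8 k
          have hk8 : k < 8 := hk
          simp only [hk8, decide_true, Bool.true_and] at e1
          exact e1
        rw [ih (by omega), this]
    exact this 8 (le_refl 8)
  rw [h1, ph]
  calc c * (zp z (x.testBit 8) * prd a 8 (x % 256)) * c⁻¹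
      = (c * zp z (x.testBit 8) * c⁻¹) * (c * prd a 8 (x % 256) * c⁻¹) := by group
    _ = _ := by rw [hz]

end

end Cfsg.Agent.TrialityTwo.Nine
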