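import Cfsg.Agent.TrialityTwo.StepT
import Cfsg.Agent.ThType.CentSevenWords

/-!
# The order of `t t^n` (helper186, for helper814)

`t` and `n t n` lie in the centraliser of `d` (order seven), which is `7 × L₃(2)` or `7 × A₆`.
-/

set_option autoImplicit false
set_option maxRecDepth 1000000

namespace Cfsg.Agent.TrialityTwo.Order

open Cfsg.Agent.LargeExtra.Model Cfsg.Agent.LargeExtra.Pres Cfsg.Agent.TrialityTwo.Nine
open Cfsg.Agent.TrialityTwo.Perm Cfsg.Agent.TrialityTwo.Lift Cfsg.Agent.TrialityTwo.RelCx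
open Cfsg.Agent.TrialityTwo.StepD Cfsg.Agent.TrialityTwo.PGam Cfsg.Agent.TrialityTwo.StepT
open Cfsg.Agent.Co2Type.Quad Cfsg.Agent.LargeExtra.Base
open Cfsg.Agent.ThType.CentSeven Cfsg.Agent.ThType.CentSevenGL Cfsg.Agent.ThType.CentSevenAbs
open Cfsg.Agent.ThType.CentSevenWords Subgroup

/-- elements of `PΓL(2,8)` commuting with `d` are powers of `d` -/
def chkC (p : ℕ) : Bool :=
  !(Nat.beq (cp p pd) (cp pd p)) ||
    !(allN (fun k => !(Nat.beq p (ppow pd k))) 7)

theorem chkC_all : PG.all chkC = true := by decide +kernel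

/-- codes commuting with `d` -/
def chkF (k : ℕ) : Bool :=
  !(Nat.beq (apk pd k 8) k) ||
    (Nat.beq k 0 || Nat.beq k 1 || Nat.beq k 2 || Nat.beq k 3 ||
      Nat.beq k 256 || Nat.beq k 257 || Nat.beq k 258 || Nat.beq k 259)

theorem chkF_all : allN chkF 512 = true := by decide +kernel

theorem mu3 : mu 1 2 = 3 ∨ mu 2 1 = 3 := by decide +kernel
theorem mu257 : mu 256 1 = 257 := by decide +kernel
theorem mu258 : mu 256 2 = 258 := by decide +kernel
theorem mu259 : mu 256 3 = 259 := by decide +kernel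

section

variable {G : Type*} [Group G] {Q : Subgroup G} {z : G} {a : ℕ → G} {d e n t : G}

theorem z_eq (nn : Nine z a) : z = (a 0 * a 1) * (a 0 * a 1) := by
  have h1 := nn.sq 0 (by norm_num)
  have h2 := nn.sq 1 (by norm_num)
  have h3 : a 0 * a 1 = z * (a 1 * a 0) := anti' nn (by norm_num) (by norm_num) (by norm_num)
  calc z = z * (a 1 * a 0) * (a 0 * a 1) := by
        rw [mul_assoc, mul_assoc (a 1), ← mul_assoc (a 0) (a 0), h1, one_mul, h2, mul_one]
    _ = (a 0 * a 1) * (a 0 * a 1) := by rw [← h3]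

/-- the fixed points of `d` on `Q` -/
theorem ph_fix_mem (nn : Nine z a) (S : Subgroup G) (h0 : a 0 ∈ S) (h1 : a 1 ∈ S) {k : ℕ}
    (hk : k < 512) (hf : apk pd k 8 = k) : ph z a k ∈ S := by
  have hz : z ∈ S := by rw [z_eq nn]; exact mul_mem (mul_mem h0 h1) (mul_mem h0 h1)
  have p0 : ph z a 0 ∈ S := by rw [ph_zero]; exact one_mem S
  have p1 : ph z a 1 ∈ S := by rw [ph_one nn]; exact h0
  have p2 : ph z a 2 ∈ S := by
    have := ph_ptc nn (i := 1) (by norm_num)
    have e : ptc 1 = 2 := by decide +kernel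
    rw [e] at this
    rw [this]; exact h1
  have p3 : ph z a 3 ∈ S := by
    rcases mu3 with h | h
    · rw [← h, ph_mul nn]; exact mul_mem p1 p2
    · rw [← h, ph_mul nn]; exact mul_mem p2 p1
  have pz : ph z a 256 ∈ S := by rw [ph_z]; exact hz
  have h := allN_iff.1 chkF_all k hk
  unfold chkF at h
  rw [hf, Nat.beq_refl] at h
  simp only [Bool.not_true, Bool.false_or, Bool.or_eq_true] at h
  rcases h with ((((((h | h) | h) | h) | h) | h) | h) | h <;> rw [Nat.eq_of_beq_eq_true h]
  · exact p0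
  · exact p1
  · exact p2
  · exact p3
  · exact pz
  · rw [← mu257, ph_mul nn]; exact mul_mem pz p1
  · rw [← mu258, ph_mul nn]; exact mul_mem pz p2
  · rw [← mu259, ph_mul nn]; exact mul_mem pz p3

theorem cent_dz [Finite G] (X : Ctx Q z a) (g : Gens z a d e n) (hPG : HPG z a) {c : G}
    (hcd : c * d = d * c) (hcz : c * z = z * c) :
    ∃ i : ℤ, ∃ y ∈ Subgroup.closure ({a 0, n * a 0 * n} : Set G), c = d ^ i * y := by
  have nn := X.nine
  obtain ⟨q, hq, hact⟩ := hPG c hcz
  have hvq := Tr.all_mem pg_vp hq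
  have hqd : cp q pd = cp pd q := by
    have h1 : Act z a (c * d) (cp q pd) := hact.mul hcz nn.zz g.d_sl.act vpd
    have h2 : Act z a (c * d) (cp pd q) := by rw [hcd]; exact g.d_sl.act.mul g.dz nn.zz hact hvq
    have h3 := Act.unique nn h1 h2 (fun i hi => by
      rw [gt_cp _ _ hi]; exact vp_lt hvq (vp_lt vpd hi)) (fun i hi => by
      rw [gt_cp _ _ hi]; exact vp_lt vpd (vp_lt hvq hi))
    exact mkp_congr fun i hi => by
      have := h3 i hi
      rwa [gt_cp _ _ hi, gt_cp _ _ hi] at this
  have hc := Tr.all_mem chkC_all hq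
  unfold chkC at hc
  rw [hqd, Nat.beq_refl] at hc
  obtain ⟨i, hi, hi'⟩ := exists_of_allN (n := 7) (f := fun k => Nat.beq q (ppow pd k)) (by simpa using hc)
  have hqi : q = ppow pd i := Nat.eq_of_beq_eq_true hi'
  rw [hqi] at hact
  have hvi : ∀ k < 7, vp (ppow pd k) = true ∧ vp (ppow pdi k) = true ∧
      ∀ j < 9, gt (ppow pd k) (gt (ppow pdi k) j) = j := by decide +kernel
  obtain ⟨k, hk, hk'⟩ := exists_code_mul X hcz (comm_pow g.dz i) hact (Sl.pow g.d_sl vpd i).act
    (hvi i hi).1 (hvi i hi).2.1 (hvi i hi).2.2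
  have hv : ph z a k = c * (d ^ i)⁻¹ := by rw [hk']; group
  have hvd : ph z a k * d = d * ph z a k := by
    rw [hv]; exact comm_mul hcd (comm_inv (comm_pow rfl i))
  have h1 : apk pd k 8 = k := by
    apply ph_inj nn (apk8_lt vpd hk) hk
    rw [← Sl.ap nn g.dz g.d_sl vpd hk, ← hvd]; group
  have hb : n * a 0 * n = a 1 := bb_eq g
  refine ⟨(i : ℤ), ph z a k, ?_, ?_⟩
  · rw [hb]
    exact ph_fix_mem nn _ (Subgroup.subset_closure (by simp)) (Subgroup.subset_closure (by simp)) hk h1
  · rw [zpow_natCast, hk']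
    exact (comm_pow hvd.symm i).symm

theorem setup [Finite G] (X : Ctx Q z a) (g : Gens z a d e n) (hPG : HPG z a)
    (ht : t * t = 1) (htd : t * d = d * t) (htz : t * z * t = a 0) : Setup d z (a 0) n := by
  have nn := X.nine
  have hb : n * a 0 * n = a 1 := bb_eq g
  exact
  { s7 := orderOf_d nn g
    cs := comm_of_fix g.d_sl (by norm_num) (by decide +kernel)
    c2 := nn.sq 0 (by norm_num)
    d2 := g.rel.n2
    ds := by
      have h1 : (n * d) * (n * d) = 1 := g.rel.nd
      calc n * d * n = (n * d) * (n * d) * d⁻¹ := by group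
        _ = d⁻¹ := by rw [h1, one_mul]
    ha := by rw [hb]; exact z_eq nn
    a2 := nn.zz
    a1 := nn.z_ne
    hC := fun x hx hxz => cent_dz X g hPG hx hxz
    fus := ⟨t, htd, by rw [inv_eq_of_mul_eq_one_left ht]; exact htz⟩ }

theorem mat_case1 : ∀ X : M3, X = mW ∨ X = mW * m13 * m12 →
    (X * (mJ * X.transpose * mJ)) * (X * (mJ * X.transpose * mJ)) * (X * (mJ * X.transpose * mJ)) = 1 ∨
    (X * (mJ * X.transpose * mJ)) * (X * (mJ * X.transpose * mJ)) *
      ((X * (mJ * X.transpose * mJ)) * (X * (mJ * X.transpose * mJ))) = 1 := by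
  decide +kernel

theorem mat_case2 : ∀ X : M3, X = mW ∨ X = mW * m13 * m12 →
    (X * (mJ * (m13 * X * m13).transpose * mJ)) * (X * (mJ * (m13 * X * m13).transpose * mJ)) *
      (X * (mJ * (m13 * X * m13).transpose * mJ)) = 1 ∨
    (X * (mJ * (m13 * X * m13).transpose * mJ)) * (X * (mJ * (m13 * X * m13).transpose * mJ)) *
      ((X * (mJ * (m13 * X * m13).transpose * mJ)) * (X * (mJ * (m13 * X * m13).transpose * mJ))) = 1 := by
  decide +kernel

theorem case168 {s a c d : G} [Finite G] (h : Setup s a c d)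
    (h168 : Nat.card (Subgroup.centralizer ({s} : Set G)) = 7 * 168) (w : G) (hws : w * s = s * w)
    (hw : w * w = 1) (hwa : w * a * w = c) :
    (w * (d * w * d)) ^ 3 = 1 ∨ (w * (d * w * d)) ^ 4 = 1 := by
  obtain ⟨F, hinj, hcom, h13, h12, h23, hall, hdis, hF⟩ := h.main h168
  obtain ⟨g, hwg, hgg, hg⟩ := exists_mat h F hinj hcom h13 h12 hall hdis w hws hw hwa
  have hgi : g⁻¹ = g := inv_eq_of_mul_eq_one_left hgg
  have e3 : ∀ y : G, y ^ 3 = y * y * y := fun y => by rw [pow_succ, pow_two]
  have e4 : ∀ y : G, y ^ 4 = y * y * (y * y) := fun y => by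
    rw [show (4 : ℕ) = 2 + 2 from rfl, pow_add, pow_two]
  rcases hF with hF | hF
  · rcases mat_case1 _ hg with h1 | h1
    · left
      rw [hwg, hF, e3, ← map_mul, ← map_mul, ← map_mul]
      have : g * th g * (g * th g) * (g * th g) = 1 := by
        apply Units.ext
        simp only [Units.val_mul, Units.val_one]
        rw [th_val, hgi]
        exact h1
      rw [this, map_one]
    · right
      rw [hwg, hF, e4, ← map_mul, ← map_mul, ← map_mul]
      have : g * th g * (g * th g) * ((g * th g) * (g * th g)) = 1 := by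
        apply Units.ext
        simp only [Units.val_mul, Units.val_one]
        rw [th_val, hgi]
        exact h1
      rw [this, map_one]
  · have hyi : (x13 * g * x13)⁻¹ = x13 * g * x13 := by
      rw [mul_inv_rev, mul_inv_rev, x13_inv, hgi, mul_assoc]
    have hval : ((x13 * g * x13 : G3) : M3) = m13 * (g : M3) * m13 := rfl
    have e2 : (th (x13 * g * x13) : M3) = mJ * (m13 * (g : M3) * m13).transpose * mJ := by
      rw [th_val, hyi, hval]
    rcases mat_case2 _ hg with h1 | h1
    · left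
      rw [hwg, hF, e3, ← map_mul, ← map_mul, ← map_mul]
      have : g * th (x13 * g * x13) * (g * th (x13 * g * x13)) * (g * th (x13 * g * x13)) = 1 := by
        apply Units.ext
        simp only [Units.val_mul, Units.val_one]
        rw [e2]
        exact h1
      rw [this, map_one]
    · right
      rw [hwg, hF, e4, ← map_mul, ← map_mul, ← map_mul]
      have : g * th (x13 * g * x13) * (g * th (x13 * g * x13)) *
          ((g * th (x13 * g * x13)) * (g * th (x13 * g * x13))) = 1 := by
        apply Units.ext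
        simp only [Units.val_mul, Units.val_one]
        rw [e2]
        exact h1
      rw [this, map_one]

/-- OUTPUT: the order of `t t^n` divides three, four or five. -/
theorem order_tn [Finite G] (X : Ctx Q z a) (g : Gens z a d e n) (hPG : HPG z a)
    (ht : t * t = 1) (htd : t * d = d * t) (htz : t * z * t = a 0) :
    (t * (n * t * n)) ^ 3 = 1 ∨ (t * (n * t * n)) ^ 4 = 1 ∨ (t * (n * t * n)) ^ 5 = 1 := by
  have h := setup X g hPG ht htd htz
  rcases h.card_cases with h1 | h1
  · rcases case168 h h1 t htd ht htz with h2 | h2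
    · exact Or.inl h2
    · exact Or.inr (Or.inl h2)
  · exact Or.inr (Or.inr (pow_four h h1 t htd ht htz).1)

end

end Cfsg.Agent.TrialityTwo.Order
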