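import Cfsg.Agent.TrialityTwo.Nine
import Cfsg.Agent.LargeExtra.Base

/-!
# Codes of permutations of the nine points, elements of `C(z)` acting on them (helper814)
-/

set_option autoImplicit false

namespace Cfsg.Agent.TrialityTwo.Perm

open Cfsg.Agent.LargeExtra.Model Cfsg.Agent.LargeExtra.Pres Cfsg.Agent.TrialityTwo.Nine
open Cfsg.Agent.Co2Type.Quad

theorem land15 (x : ℕ) : Nat.land x 15 = x % 16 := by
  have := Nat.and_two_pow_sub_one_eq_mod x 4
  simpa using this

theorem gt_eq (p i : ℕ) : gt p i = p / 16 ^ i % 16 := by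
  show Nat.land (Nat.shiftRight p (4 * i)) 15 = _
  rw [land15]
  have : Nat.shiftRight p (4 * i) = p / 16 ^ i := by
    have e := Nat.shiftRight_eq_div_pow p (4 * i)
    rw [pow_mul] at e
    simpa using e
  rw [this]

theorem gt_lt (p i : ℕ) : gt p i < 16 := by rw [gt_eq]; exact Nat.mod_lt _ (by norm_num)

/-- the code with digits `f 0, …, f (n-1)` -/
def mkp (f : ℕ → ℕ) : ℕ → ℕ
  | 0 => 0
  | n + 1 => Nat.add (mkp f n) (Nat.mul (f n) (Nat.pow 16 n))

theorem mkp_succ (f : ℕ → ℕ) (n : ℕ) : mkp f (n + 1) = mkp f n + f n * 16 ^ n := rfl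

theorem mkp_lt {f : ℕ → ℕ} (hf : ∀ i, f i < 16) (n : ℕ) : mkp f n < 16 ^ n := by
  induction n with
  | zero => exact Nat.one_pos
  | succ n ih =>
    rw [mkp_succ]
    have h1 : f n * 16 ^ n ≤ 15 * 16 ^ n := Nat.mul_le_mul_right _ (by have := hf n; omega)
    have h2 : 16 ^ (n + 1) = 16 * 16 ^ n := by ring
    omega

theorem gt_mkp {f : ℕ → ℕ} (hf : ∀ i, f i < 16) {n i : ℕ} (hi : i < n) : gt (mkp f n) i = f i := by
  induction n with
  | zero => omega
  | succ n ih =>
    rw [gt_eq, mkp_succ]
    rcases Nat.lt_or_ge i n with h | h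
    · have h1 : f n * 16 ^ n = 16 ^ i * (16 * (f n * 16 ^ (n - i - 1))) := by
        have e0 : (16 : ℕ) ^ n = 16 ^ i * (16 * 16 ^ (n - i - 1)) := by
          rw [← pow_succ', ← pow_add]
          congr 1
          omega
        rw [e0]; ring
      rw [h1, Nat.add_mul_div_left _ _ (by positivity), Nat.add_mul_mod_self_left]
      have := ih h
      rwa [gt_eq] at this
    · have : i = n := by omega
      subst this
      rw [mul_comm, Nat.add_mul_div_left _ _ (by positivity), Nat.div_eq_of_lt (mkp_lt hf i), zero_add,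
        Nat.mod_eq_of_lt (hf i)]

/-- composition -/
def cp (p q : ℕ) : ℕ := mkp (fun i => gt p (gt q i)) 9

theorem gt_cp (p q : ℕ) {i : ℕ} (hi : i < 9) : gt (cp p q) i = gt p (gt q i) :=
  gt_mkp (f := fun i => gt p (gt q i)) (fun i => gt_lt p _) hi

/-- the identity -/
def idp : ℕ := 0x876543210

theorem gt_idp {i : ℕ} (hi : i < 9) : gt idp i = i := by
  have : ∀ i < 9, gt idp i = i := by decide +kernel
  exact this i hi

/-- bounded quantifier -/
def allN (f : ℕ → Bool) : ℕ → Bool
  | 0 => true
  | k + 1 => f k && allN f k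

theorem allN_iff {f : ℕ → Bool} {n : ℕ} : allN f n = true ↔ ∀ i < n, f i = true := by
  induction n with
  | zero => exact ⟨fun _ i hi => absurd hi (by omega), fun _ => rfl⟩
  | succ n ih =>
    show (f n && allN f n) = true ↔ _
    rw [Bool.and_eq_true, ih]
    constructor
    · rintro ⟨h1, h2⟩ i hi
      rcases Nat.lt_or_ge i n with h | h
      · exact h2 i h
      · have : i = n := by omega
        rw [this]; exact h1
    · intro h
      exact ⟨h n (by omega), fun i hi => h i (by omega)⟩

/-- `p` is the code of an injective map of `{0, …, 8}` which preserves the product -/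
def vp (p : ℕ) : Bool :=
  allN (fun i => Nat.blt (gt p i) 9 && allN (fun j => Nat.beq i j || !Nat.beq (gt p i) (gt p j)) 9) 9 &&
    Nat.beq (apk p 511 8) (ptc (gt p 8))

theorem vp_lt {p : ℕ} (h : vp p = true) {i : ℕ} (hi : i < 9) : gt p i < 9 := by
  unfold vp at h
  rw [Bool.and_eq_true, allN_iff] at h
  have := h.1 i hi
  rw [Bool.and_eq_true] at this
  simpa using this.1

theorem vp_inj {p : ℕ} (h : vp p = true) {i j : ℕ} (hi : i < 9) (hj : j < 9) (hij : gt p i = gt p j) :
    i = j := by
  unfold vp at h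
  rw [Bool.and_eq_true, allN_iff] at h
  have := h.1 i hi
  rw [Bool.and_eq_true, allN_iff] at this
  have h2 := this.2 j hj
  rw [Bool.or_eq_true] at h2
  rcases h2 with h2 | h2
  · simpa using h2
  · rw [hij] at h2
    simp at h2

theorem vp_even {p : ℕ} (h : vp p = true) : apk p 511 8 = ptc (gt p 8) := by
  unfold vp at h
  rw [Bool.and_eq_true] at h
  simpa using h.2

/-! ### the action -/

section

variable {G : Type*} [Group G]

/-- `c` induces `p` on the nine points up to signs -/
def Act (z : G) (a : ℕ → G) (c : G) (p : ℕ) : Prop :=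
  ∀ i < 9, c * a i * c⁻¹ = a (gt p i) ∨ c * a i * c⁻¹ = z * a (gt p i)

/-- `c` induces `p` on the nine points -/
def Sl (a : ℕ → G) (c : G) (p : ℕ) : Prop := ∀ i < 9, c * a i * c⁻¹ = a (gt p i)

variable {z : G} {a : ℕ → G}

theorem Sl.act {c : G} {p : ℕ} (h : Sl a c p) : Act z a c p := fun i hi => Or.inl (h i hi)

theorem Act.one : Act z a 1 idp := fun i hi => by left; rw [gt_idp hi]; group

theorem Sl.one : Sl a 1 idp := fun i hi => by rw [gt_idp hi]; group

theorem Sl.mul {c c' : G} {p p' : ℕ} (h : Sl a c p) (h' : Sl a c' p') (hp : vp p' = true) :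
    Sl a (c * c') (cp p p') := by
  intro i hi
  rw [gt_cp p p' hi, ← h _ (vp_lt hp hi), ← h' i hi]
  group

theorem Act.mul {c c' : G} {p p' : ℕ} (hc : c * z = z * c) (hz : z * z = 1) (h : Act z a c p)
    (h' : Act z a c' p') (hp : vp p' = true) : Act z a (c * c') (cp p p') := by
  intro i hi
  have e : c * c' * a i * (c * c')⁻¹ = c * (c' * a i * c'⁻¹) * c⁻¹ := by group
  have e2 : ∀ x : G, c * (z * x) * c⁻¹ = z * (c * x * c⁻¹) := by
    intro x
    calc c * (z * x) * c⁻¹ = (c * z) * x * c⁻¹ := by group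
      _ = z * (c * x * c⁻¹) := by rw [hc]; group
  rw [e, gt_cp p p' hi]
  rcases h' i hi with h1 | h1 <;> rcases h _ (vp_lt hp hi) with h2 | h2
  · left; rw [h1, h2]
  · right; rw [h1, h2]
  · right; rw [h1, e2, h2]
  · left; rw [h1, e2, h2, ← mul_assoc, hz, one_mul]

/-- a left inverse code gives the inverse element -/
theorem Sl.inv {c : G} {p q : ℕ} (h : Sl a c p) (hq : ∀ i < 9, gt q i < 9 ∧ gt p (gt q i) = i) :
    Sl a c⁻¹ q := by
  intro i hi
  obtain ⟨h1, h2⟩ := hq i hi
  have := h (gt q i) h1
  rw [h2] at this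
  rw [← this]; group

theorem Act.inv {c : G} {p q : ℕ} (hc : c * z = z * c) (hz : z * z = 1) (h : Act z a c p)
    (hq : ∀ i < 9, gt q i < 9 ∧ gt p (gt q i) = i) : Act z a c⁻¹ q := by
  intro i hi
  obtain ⟨h1, h2⟩ := hq i hi
  rcases h (gt q i) h1 with h3 | h3
  · left; rw [h2] at h3; rw [← h3]; group
  · right
    rw [h2] at h3
    have h4 : a i = z * (c * a (gt q i) * c⁻¹) := by rw [h3, ← mul_assoc, hz, one_mul]
    have h5 : c⁻¹ * z = z * c⁻¹ := by
      calc c⁻¹ * z = c⁻¹ * (z * c) * c⁻¹ := by group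
        _ = c⁻¹ * (c * z) * c⁻¹ := by rw [hc]
        _ = z * c⁻¹ := by group
    rw [h4]
    calc c⁻¹ * (z * (c * a (gt q i) * c⁻¹)) * c⁻¹⁻¹ = (c⁻¹ * z) * c * a (gt q i) := by group
      _ = z * a (gt q i) := by rw [h5]; group

theorem Sl.congr {c : G} {p q : ℕ} (h : Sl a c p) (hpq : ∀ i < 9, gt p i = gt q i) : Sl a c q :=
  fun i hi => by rw [← hpq i hi]; exact h i hi

theorem Act.congr {c : G} {p q : ℕ} (h : Act z a c p) (hpq : ∀ i < 9, gt p i = gt q i) :
    Act z a c q := fun i hi => by rw [← hpq i hi]; exact h i hi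

theorem ne_point (n : Nine z a) {i j : ℕ} (hi : i < 9) (hj : j < 9) (hij : i ≠ j) :
    a i ≠ a j ∧ a i ≠ z * a j := by
  have e : ∀ i < 9, ∀ j < 9, i = j ∨ (ptc i ≠ ptc j ∧ ptc i ≠ mu 256 (ptc j) ∧ ptc i < 512 ∧
      ptc j < 512 ∧ mu 256 (ptc j) < 512) := by decide +kernel
  obtain ⟨h1, h2, h3, h4, h5⟩ := (e i hi j hj).resolve_left hij
  refine ⟨fun h => h1 (ph_inj n h3 h4 ?_), fun h => h2 (ph_inj n h3 h5 ?_)⟩
  · rw [ph_ptc n hi, ph_ptc n hj, h]
  · rw [ph_mul n, ph_z, ph_ptc n hi, ph_ptc n hj, h]

/-- the code induced is unique -/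
theorem Act.unique (n : Nine z a) {c : G} {p q : ℕ} (h : Act z a c p) (h' : Act z a c q)
    (hp : ∀ i < 9, gt p i < 9) (hq : ∀ i < 9, gt q i < 9) : ∀ i < 9, gt p i = gt q i := by
  intro i hi
  by_contra hne
  have key : ∀ i < 9, ∀ j < 9, i ≠ j → a i ≠ a j ∧ a i ≠ z * a j := by
    exact fun i hi j hj hij => ne_point n hi hj hij
  have hk := key _ (hp i hi) _ (hq i hi) hne
  have hzz : ∀ x y : G, z * x = z * y → x = y := fun x y h => mul_left_cancel h
  have hk' := key _ (hq i hi) _ (hp i hi) (Ne.symm hne)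
  rcases h i hi with h1 | h1 <;> rcases h' i hi with h2 | h2
  · exact hk.1 (h1.symm.trans h2)
  · exact hk.2 (h1.symm.trans h2)
  · exact hk'.2 (h2.symm.trans h1)
  · exact hk.1 (hzz _ _ (h1.symm.trans h2))

theorem anti' (n : Nine z a) {i j : ℕ} (hi : i < 9) (hj : j < 9) (hij : i ≠ j) :
    a i * a j = z * (a j * a i) := by
  rcases Nat.lt_or_ge j i with h | h
  · exact n.anti i hi j h
  · have := n.anti j hj i (by omega)
    rw [this, ← mul_assoc, n.zz, one_mul]

/-- Signs can be removed by an element of the group generated by the nine points. -/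
theorem exists_sl (n : Nine z a) {c : G} (hc : c * z = z * c) {p : ℕ} (hp : vp p = true)
    (h : Act z a c p) : ∃ k < 512, Sl a (ph z a k * c) p := by
  -- remove the signs one after the other
  have hcz : ∀ k, ph z a k * z = z * ph z a k := by
    intro k
    have e1 : ph z a k * z = ph z a (mu k 256) := by rw [ph_mul n, ph_z]
    have e2 : z * ph z a k = ph z a (mu 256 k) := by rw [ph_mul n, ph_z]
    have e3 : ∀ k : ℕ, mu k 256 = mu 256 k := by
      intro k
      rw [mu_eq, mu_eq]
      have : bt (k % 256) (256 % 256) = bt (256 % 256) (k % 256) := by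
        have h1 := bt_xor_left 0 0 (k % 256)
        have h2 := bt_xor_right (k % 256) 0 0
        simp only [Nat.xor_self] at h1 h2
        rw [Nat.mod_self, h1, h2]
      rw [this, Nat.xor_comm k 256]
    rw [e1, e2, e3]
  have step : ∀ m ≤ 8, ∃ k < 512, Act z a (ph z a k * c) p ∧
      ∀ i < m, (ph z a k * c) * a i * (ph z a k * c)⁻¹ = a (gt p i) := by
    intro m
    induction m with
    | zero => exact fun _ => ⟨0, by norm_num, by rw [ph_zero, one_mul]; exact h, fun i hi => absurd hi (by omega)⟩
    | succ m ih =>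
      intro hm
      obtain ⟨k, hk, hA, hS⟩ := ih (by omega)
      rcases hA m (by omega) with h1 | h1
      · refine ⟨k, hk, hA, fun i hi => ?_⟩
        rcases Nat.lt_or_ge i m with h2 | h2
        · exact hS i h2
        · have : i = m := by omega
          rw [this]; exact h1
      · -- multiply by `w = a (p m) * a (p 8)`
        have hm9 : gt p m < 9 := vp_lt hp (by omega)
        have h89 : gt p 8 < 9 := vp_lt hp (by norm_num)
        have hmn : gt p m ≠ gt p 8 := fun he => by
          have := vp_inj hp (by omega) (by norm_num) he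
          omega
        have hw : ph z a (mu (ptc (gt p m)) (ptc (gt p 8))) = a (gt p m) * a (gt p 8) := by
          rw [ph_mul n, ph_ptc n hm9, ph_ptc n h89]
        have hinv : ∀ i < 9, (a i)⁻¹ = a i := fun i hi => inv_eq_of_mul_eq_one_left (n.sq i hi)
        have hptc : ∀ i < 9, ptc i < 512 := by decide +kernel
        have e : ∀ x : G, (ph z a (mu (ptc (gt p m)) (ptc (gt p 8))) * (ph z a k * c)) * x *
            (ph z a (mu (ptc (gt p m)) (ptc (gt p 8))) * (ph z a k * c))⁻¹ =
            a (gt p m) * (a (gt p 8) * (ph z a k * c * x * (ph z a k * c)⁻¹) * a (gt p 8)) * a (gt p m) := by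
          intro x
          rw [hw, mul_inv_rev, mul_inv_rev (a (gt p m)), hinv _ hm9, hinv _ h89]
          group
        -- conjugation by a point
        have cj : ∀ j < 9, ∀ i < 9, a j * a i * a j = if i = j then a i else z * a i := by
          intro j hj i hi
          split_ifs with hij
          · rw [hij, n.sq j hj, one_mul]
          · rw [anti' n hj hi (fun h => hij h.symm), mul_assoc, mul_assoc, n.sq j hj, mul_one]
        have cjz : ∀ j < 9, ∀ x : G, a j * (z * x) * a j = z * (a j * x * a j) := by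
          intro j hj x
          rw [← mul_assoc (a j), n.comm j hj]; simp only [mul_assoc]
        have hz2 : ∀ x : G, z * (z * x) = x := fun x => by rw [← mul_assoc, n.zz, one_mul]
        refine ⟨mu (mu (ptc (gt p m)) (ptc (gt p 8))) k, mu_lt (mu_lt (hptc _ hm9) (hptc _ h89)) hk, ?_, ?_⟩
        · intro i hi
          have hi9 : gt p i < 9 := vp_lt hp hi
          rw [ph_mul n, mul_assoc (ph z a _) (ph z a _) c, e]
          rcases hA i hi with h2 | h2
          · rw [h2, cj _ h89 _ hi9]
            split_ifs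
            · rw [cj _ hm9 _ hi9]; split_ifs
              · left; rfl
              · right; rfl
            · rw [cjz _ hm9, cj _ hm9 _ hi9]; split_ifs
              · right; rfl
              · left; rw [hz2]
          · rw [h2, cjz _ h89, cj _ h89 _ hi9]
            split_ifs
            · rw [cjz _ hm9, cj _ hm9 _ hi9]; split_ifs
              · right; rfl
              · left; rw [hz2]
            · rw [hz2, cj _ hm9 _ hi9]; split_ifs
              · left; rfl
              · right; rfl
        · intro i hi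
          rw [ph_mul n, mul_assoc (ph z a _) (ph z a _) c, e]
          rcases Nat.lt_or_ge i m with h2 | h2
          · have hi9 : gt p i < 9 := vp_lt hp (by omega)
            have hne8 : gt p i ≠ gt p 8 := fun he => by
              have := vp_inj hp (by omega) (by norm_num) he
              omega
            have hnem : gt p i ≠ gt p m := fun he => by
              have := vp_inj hp (by omega) (by omega) he
              omega
            rw [hS i h2, cj _ h89 _ hi9, if_neg hne8, cjz _ hm9, cj _ hm9 _ hi9, if_neg hnem, hz2]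
          · have : i = m := by omega
            subst this
            rw [h1, cjz _ h89, cj _ h89 _ hm9, if_neg hmn, hz2, cj _ hm9 _ hm9, if_pos rfl]
  obtain ⟨k, hk, hA, hS⟩ := step 8 (le_refl 8)
  refine ⟨k, hk, fun i hi => ?_⟩
  rcases Nat.lt_or_ge i 8 with h2 | h2
  · exact hS i h2
  · have : i = 8 := by omega
    subst this
    have hcz' : (ph z a k * c) * z = z * (ph z a k * c) := by
      rw [mul_assoc, hc, ← mul_assoc, hcz, mul_assoc]
    have h3 := apk_spec n hcz' (p := p) (fun i hi => vp_lt hp (by omega)) hS 511 (by norm_num)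
    rw [vp_even hp, ph_ptc n (vp_lt hp (by norm_num)), ph_255 n] at h3
    exact h3

end

end Cfsg.Agent.TrialityTwo.Perm
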