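import Cfsg.Agent.TrialityTwo.Lift

/-!
# The relations of `2^(1+8) : L₂(8)` (helper814)
-/

set_option autoImplicit false

namespace Cfsg.Agent.TrialityTwo.RelCx

open Cfsg.Agent.LargeExtra.Model Cfsg.Agent.LargeExtra.Pres Cfsg.Agent.TrialityTwo.Nine
open Cfsg.Agent.TrialityTwo.Perm Cfsg.Agent.TrialityTwo.Lift
open Cfsg.Agent.Co2Type.Quad

variable {G : Type*} [Group G] {Q : Subgroup G} {z : G} {a : ℕ → G} {d e n : G}

theorem n_inv (g : Gens z a d e n) : n⁻¹ = n := inv_eq_of_mul_eq_one_left g.rel.n2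
theorem e_inv (g : Gens z a d e n) : e⁻¹ = e := inv_eq_of_mul_eq_one_left g.rel.e2

theorem bb_eq (g : Gens z a d e n) : bb n (a 0) = a 1 := by
  have := g.n_sl 0 (by norm_num)
  rw [n_inv g] at this
  have h : gt pn 0 = 1 := by decide +kernel
  rw [h] at this
  exact this

theorem zc_eq (nn : Nine z a) (g : Gens z a d e n) : zc n (a 0) = z := by
  unfold zc
  rw [bb_eq g]
  have e1 : a 0 * a 1 * a 0 * a 1 = ph z a (mu (mu (mu (ptc 0) (ptc 1)) (ptc 0)) (ptc 1)) := by
    rw [ph_mul nn, ph_mul nn, ph_mul nn, ph_ptc nn (by norm_num), ph_ptc nn (by norm_num)]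
  have e2 : mu (mu (mu (ptc 0) (ptc 1)) (ptc 0)) (ptc 1) = 256 := by decide +kernel
  rw [e1, e2, ph_z]

theorem ebe (g : Gens z a d e n) : e * a 1 * e = a 2 := by
  have := g.e_sl 1 (by norm_num)
  rw [e_inv g] at this
  have h : gt pe 1 = 2 := by decide +kernel
  rw [h] at this
  exact this

theorem d_pow (g : Gens z a d e n) {i k : ℕ} (hi : i < 9) : (d ^ k)⁻¹ * a i * d ^ k = a (gt (ppow pdi k) i) := by
  have h1 := Sl.pow (Sl.d_inv g.d_sl) vpdi k i hi
  rw [inv_pow, inv_inv] at h1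
  exact h1

theorem cc_eq (g : Gens z a d e n) {i : ℕ} (hi : i < 7) : cc d e n (a 0) i = a (2 + i) := by
  unfold cc
  rw [bb_eq g, ebe g, d_pow g (by norm_num)]
  have h : ∀ i < 7, gt (ppow pdi i) 2 = 2 + i := by decide +kernel
  rw [h i hi]

theorem comm_of_fix {c : G} {p i : ℕ} (h : Sl a c p) (hi : i < 9) (hp : gt p i = i) : a i * c = c * a i := by
  have := h i hi
  rw [hp] at this
  calc a i * c = (c * a i * c⁻¹) * c := by rw [this]
    _ = c * a i := by group

theorem relC (nn : Nine z a) (g : Gens z a d e n) : RelC d e n (a 0) where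
  toRelL := g.rel
  a2 := nn.sq 0 (by norm_num)
  ad := comm_of_fix g.d_sl (by norm_num) (by decide +kernel)
  ae := comm_of_fix g.e_sl (by norm_num) (by decide +kernel)
  z2 := by rw [zc_eq nn g]; exact nn.zz
  ze := by rw [zc_eq nn g]; exact g.ez.symm
  prod := by
    rw [zc_eq nn g, bb_eq g, cc_eq g (by norm_num), cc_eq g (by norm_num), cc_eq g (by norm_num),
      cc_eq g (by norm_num), cc_eq g (by norm_num), cc_eq g (by norm_num), cc_eq g (by norm_num)]
    have e1 : a 0 * a 1 * a (2 + 0) * a (2 + 1) * a (2 + 2) * a (2 + 3) * a (2 + 4) * a (2 + 5) * a (2 + 6) =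
        ph z a (mu (mu (mu (mu (mu (mu (mu (mu (ptc 0) (ptc 1)) (ptc 2)) (ptc 3)) (ptc 4)) (ptc 5)) (ptc 6)) (ptc 7)) (ptc 8)) := by
      simp only [ph_mul nn]
      rw [ph_ptc nn (by norm_num), ph_ptc nn (by norm_num), ph_ptc nn (by norm_num), ph_ptc nn (by norm_num),
        ph_ptc nn (by norm_num), ph_ptc nn (by norm_num), ph_ptc nn (by norm_num), ph_ptc nn (by norm_num),
        ph_ptc nn (by norm_num)]
    have e2 : mu (mu (mu (mu (mu (mu (mu (mu (ptc 0) (ptc 1)) (ptc 2)) (ptc 3)) (ptc 4)) (ptc 5)) (ptc 6)) (ptc 7)) (ptc 8) = 256 := by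
      decide +kernel
    rw [e1, e2, ph_z]

end Cfsg.Agent.TrialityTwo.RelCx
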