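import Cfsg.Agent.TrialityTwo.RelCx
import Cfsg.Agent.TrialityTwo.PGam
import Cfsg.Agent.LargeExtra.Local
import Cfsg.Agent.LargeExtra.TwoCentral

/-!
# The intersection `D = Q ∩ Q^g` and the position of the translations (helper814)

`e ∈ Q_{a_∞}` or `e ∈ Q_{z a_∞}`.
-/

set_option autoImplicit false

namespace Cfsg.Agent.TrialityTwo.StepD

open Cfsg.Agent.LargeExtra.Model Cfsg.Agent.LargeExtra.Pres Cfsg.Agent.TrialityTwo.Nine
open Cfsg.Agent.TrialityTwo.Perm Cfsg.Agent.TrialityTwo.Lift Cfsg.Agent.TrialityTwo.RelCx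
open Cfsg.Agent.Co2Type.Quad Cfsg.Agent.LargeExtra.Base

theorem ptc_lt : ∀ i < 9, ptc i < 512 := by decide +kernel

theorem apk_lt {p : ℕ} (hp : ∀ i < 8, gt p i < 9) {x : ℕ} (hx : x < 512) (k : ℕ) (hk : k ≤ 8) :
    apk p x k < 512 := by
  induction k with
  | zero =>
    have : ∀ x < 512, Nat.land x 256 < 512 := by decide +kernel
    exact this x hx
  | succ k ih =>
    show (bif Nat.testBit x k then mu (apk p x k) (ptc (gt p k)) else apk p x k) < 512
    cases Nat.testBit x k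
    · exact ih (by omega)
    · exact mu_lt (ih (by omega)) (ptc_lt _ (hp k (by omega)))

theorem vlt {p : ℕ} (hv : vp p = true) : ∀ i < 8, gt p i < 9 := fun _ hi => vp_lt hv (by omega)

theorem apk8_lt {p : ℕ} (hv : vp p = true) {x : ℕ} (hx : x < 512) : apk p x 8 < 512 :=
  apk_lt (vlt hv) hx 8 (le_refl 8)

section

variable {G : Type*} [Group G] {Q A : Subgroup G} {z : G} {a : ℕ → G} {d e n : G}

theorem Sl.ap (nn : Nine z a) {c : G} (hc : c * z = z * c) {p : ℕ} (h : Sl a c p) (hv : vp p = true)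
    {x : ℕ} (hx : x < 512) : c * ph z a x * c⁻¹ = ph z a (apk p x 8) :=
  apk_spec nn hc (vlt hv) (fun i hi => h i (by omega)) x hx

theorem inv_code (nn : Nine z a) {x y : ℕ} (h : mu x y = 0) : (ph z a x)⁻¹ = ph z a y := by
  rw [inv_eq_iff_mul_eq_one, ← ph_mul nn, h, ph_zero]

/-- Elements acting by signs are in `Q`. -/
theorem mem_Q_of_act [Finite G] (X : Ctx Q z a) {c : G} (hc : c * z = z * c) (h : Act z a c idp) :
    c ∈ Q := by
  obtain ⟨k, hk, hs⟩ := exists_sl X.nine hc vpi h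
  have hq : ph z a k ∈ Q := ph_mem X.large.z_mem X.mem k
  have h1 := triv X (comm_mul (ph_comm_z X.nine k) hc) hs
  have h2 : ph z a k * c ∈ Q := by
    rcases h1 with h1 | h1
    · rw [h1]; exact one_mem _
    · rw [h1]; exact X.large.z_mem
  have := mul_mem (inv_mem hq) h2
  rwa [inv_mul_cancel_left] at this

/-- `c` and `c'` with the same permutation differ by an element of `Q`. -/
theorem exists_code_mul [Finite G] (X : Ctx Q z a) {c c' : G} (hc : c * z = z * c)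
    (hc' : c' * z = z * c') {p q : ℕ} (h : Act z a c p) (h' : Act z a c' p)
    (_hp : vp p = true) (hq : vp q = true) (hpq : ∀ i < 9, gt p (gt q i) = i) :
    ∃ k < 512, c = ph z a k * c' := by
  have h1 : Act z a (c * c'⁻¹) idp := by
    refine (h.mul hc X.nine.zz (h'.inv hc' X.nine.zz (fun i hi => ⟨vp_lt hq hi, hpq i hi⟩)) hq).congr
      fun i hi => ?_
    rw [gt_cp _ _ hi, gt_idp hi, hpq i hi]
  have h2 := mem_Q_of_act X (comm_mul hc (comm_inv hc')) h1
  obtain ⟨k, hk, hk'⟩ := exists_ph X.nine X.large.z_mem X.mem X.card h2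
  exact ⟨k, hk, by rw [hk']; group⟩

theorem conj_Q (X : Ctx Q z a) {x y : G} (hx : x ∈ Q) (hy : y ∈ Q) :
    x * y * x⁻¹ = y ∨ x * y * x⁻¹ = z * y := by
  rcases X.large.comm x hx y hy with h | h
  · left; rw [h]; group
  · right
    rw [h, mul_assoc _ z, ← (X.large.commz hx).inv_left.eq, ← X.large.comm_z y hy]
    group

/-! ### `D` -/

/-- commutes with the generators of `D` -/
def inD (k : ℕ) : Bool :=
  Nat.beq (mu k 1) (mu 1 k) && (Nat.beq (mu k 199) (mu 199 k) && (Nat.beq (mu k 116) (mu 116 k) &&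
    Nat.beq (mu k 232) (mu 232 k)))

/-- the elements of `D` -/
def dcode (i : ℕ) : ℕ :=
  mu (bif Nat.testBit i 0 then 256 else 0) (mu (bif Nat.testBit i 1 then 1 else 0)
    (mu (bif Nat.testBit i 2 then 199 else 0) (mu (bif Nat.testBit i 3 then 116 else 0)
      (bif Nat.testBit i 4 then 232 else 0))))

theorem inD_gen : ∀ k < 512, inD k = true → ∃ i < 32, dcode i = k := by decide +kernel

theorem dcode_inD : ∀ i < 32, inD (dcode i) = true := by decide +kernel

theorem ph_bif (k : ℕ) (b : Bool) (S : Subgroup G) (h : ph z a k ∈ S) : ph z a (bif b then k else 0) ∈ S := by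
  cases b
  · show ph z a 0 ∈ S
    rw [ph_zero]; exact one_mem _
  · exact h

theorem ph_mem_of_inD (nn : Nine z a) (S : Subgroup G) (hz : z ∈ S) (h0 : a 0 ∈ S)
    (h1 : ph z a 199 ∈ S) (h2 : ph z a 116 ∈ S) (h3 : ph z a 232 ∈ S) {k : ℕ} (hk : k < 512)
    (h : inD k = true) : ph z a k ∈ S := by
  obtain ⟨i, -, rfl⟩ := inD_gen k hk h
  unfold dcode
  rw [ph_mul nn, ph_mul nn, ph_mul nn, ph_mul nn]
  refine mul_mem (ph_bif _ _ _ (by rw [ph_z]; exact hz)) (mul_mem (ph_bif _ _ _ ?_)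
    (mul_mem (ph_bif _ _ _ h1) (mul_mem (ph_bif _ _ _ h2) (ph_bif _ _ _ h3))))
  have : ph z a 1 = a 0 := ph_ptc nn (i := 0) (by norm_num)
  rw [this]; exact h0

theorem ph_one (nn : Nine z a) : ph z a 1 = a 0 := ph_ptc nn (i := 0) (by norm_num)

/-- the standard translation `d⁻¹ e d` -/
def pe1 : ℕ := cp (cp pdi pe) pd

theorem vpe1 : vp pe1 = true := by decide +kernel

/-- `D ≤ Q_{a_∞}` -/
theorem D_le [Finite G] (X : Ctx Q z a) (g : Gens z a d e n) (p : Pair Q z A (a 0)) {y : G} (hy : y ∈ A)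
    (hyz : y * z = z * y) (hye : Act z a y pe) {k : ℕ} (hk : k < 512) (h : inD k = true) :
    ph z a k ∈ A := by
  have nn := X.nine
  obtain ⟨m, hm, rfl⟩ := exists_code_mul X hyz g.ez hye g.e_sl.act vpe vpe (by decide +kernel)
  have hd0 : d * a 0 = a 0 * d := (comm_of_fix g.d_sl (by norm_num) (by decide +kernel)).symm
  have h199 : ph z a 199 ∈ A := by
    have hr : ph z a (mu (ptc 3) (ptc 4)) ∈ Q := ph_mem X.large.z_mem X.mem _
    have hra : ph z a (mu (ptc 3) (ptc 4)) * a 0 = a 0 * ph z a (mu (ptc 3) (ptc 4)) := by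
      rw [← ph_one nn, ← ph_mul nn, ← ph_mul nn]; congr 1
    have h1 := (p.comm_mem hr hra hy hyz).2
    have h2 : (ph z a (mu (ptc 3) (ptc 4)))⁻¹ = ph z a (mu (ptc 4) (ptc 3)) :=
      inv_code nn (by decide +kernel)
    have h3 : e * ph z a (mu (ptc 4) (ptc 3)) * e⁻¹ = ph z a (apk pe (mu (ptc 4) (ptc 3)) 8) :=
      Sl.ap nn g.ez g.e_sl vpe (by decide +kernel)
    have h4 : ph z a (mu (ptc 3) (ptc 4)) * (ph z a m * e) * (ph z a (mu (ptc 3) (ptc 4)))⁻¹ *
        (ph z a m * e)⁻¹ = ph z a (mu (ptc 3) (ptc 4)) * (ph z a m *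
          ph z a (apk pe (mu (ptc 4) (ptc 3)) 8) * (ph z a m)⁻¹) := by
      rw [h2, ← h3]; group
    have hA : A.carrier (ph z a (mu (ptc 3) (ptc 4)) * (ph z a m *
          ph z a (apk pe (mu (ptc 4) (ptc 3)) 8) * (ph z a m)⁻¹)) := by rw [← h4]; exact h1
    have e199 : mu (mu (ptc 3) (ptc 4)) (apk pe (mu (ptc 4) (ptc 3)) 8) = 199 := by decide +kernel
    rcases conj_Q X (ph_mem X.large.z_mem X.mem m)
      (ph_mem (z := z) (a := a) X.large.z_mem X.mem (apk pe (mu (ptc 4) (ptc 3)) 8)) with h5 | h5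
    · rw [h5, ← ph_mul nn, e199] at hA
      exact hA
    · rw [h5, ← mul_assoc, ph_comm_z nn, mul_assoc, ← ph_mul nn, e199] at hA
      have := mul_mem (inv_mem p.z_mem) (show z * ph z a 199 ∈ A from hA)
      rwa [inv_mul_cancel_left] at this
  have hdi : ∀ x ∈ A, d⁻¹ * x * d ∈ A := by
    intro x hx
    have := p.la.conj_mem d⁻¹ (comm_inv hd0) x hx
    rwa [inv_inv] at this
  have hst : ∀ x < 512, d⁻¹ * ph z a x * d = ph z a (apk pdi x 8) := by
    intro x hx
    have := Sl.ap nn (comm_inv g.dz) (Sl.d_inv g.d_sl) vpdi hx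
    rwa [inv_inv] at this
  have h116 : ph z a 116 ∈ A := by
    have e1 : apk pdi 199 8 = 116 := by decide +kernel
    rw [← e1, ← hst 199 (by norm_num)]
    exact hdi _ h199
  have h232 : ph z a 232 ∈ A := by
    have e1 : apk pdi 116 8 = 232 := by decide +kernel
    rw [← e1, ← hst 116 (by norm_num)]
    exact hdi _ h116
  exact ph_mem_of_inD nn A p.z_mem p.la.z_mem h199 h116 h232 hk h

theorem ph_comm_iff (nn : Nine z a) {x y : ℕ} (hx : x < 512) (hy : y < 512) :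
    ph z a x * ph z a y = ph z a y * ph z a x ↔ mu x y = mu y x := by
  rw [← ph_mul nn, ← ph_mul nn]
  exact ⟨fun h => ph_inj nn (mu_lt hx hy) (mu_lt hy hx) h, fun h => by rw [h]⟩

/-- the exact description of `Q ∩ Q_{a_∞}` -/
theorem D_iff [Finite G] (X : Ctx Q z a) (g : Gens z a d e n) (p : Pair Q z A (a 0)) {y : G} (hy : y ∈ A)
    (hyz : y * z = z * y) (hye : Act z a y pe) {k : ℕ} (hk : k < 512) :
    ph z a k ∈ A ↔ inD k = true := by
  have nn := X.nine
  refine ⟨fun h => ?_, fun h => D_le X g p hy hyz hye hk h⟩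
  have key : ∀ x < 512, inD x = true → Nat.beq (mu k x) (mu x k) = true := by
    intro x hx hxD
    have h1 := p.comm_D (ph_mem X.large.z_mem X.mem k) h (ph_mem X.large.z_mem X.mem x)
      (D_le X g p hy hyz hye hx hxD)
    rw [ph_comm_iff nn hk hx] at h1
    rw [h1]; exact Nat.beq_refl _
  unfold inD
  rw [key 1 (by norm_num) (by decide +kernel), key 199 (by norm_num) (by decide +kernel),
    key 116 (by norm_num) (by decide +kernel), key 232 (by norm_num) (by decide +kernel)]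
  rfl

/-! ### the position of `e` -/

/-- the finite check -/
def chk2 (k : ℕ) : Bool :=
  !(Nat.beq (mu k 1) (mu 1 k)) ||
  !(Nat.beq (mu k (apk pe k 8)) 0 || Nat.beq (mu k (apk pe k 8)) 1) ||
  !(Nat.beq (mu k (apk pe (apk pdi k 8) 8)) (mu (apk pdi k 8) (apk pe1 k 8)) ||
    Nat.beq (mu k (apk pe (apk pdi k 8) 8)) (mu (mu (apk pdi k 8) (apk pe1 k 8)) 1)) ||
  !(inD (mu (mu k (apk pe (apk pdi k 8) 8)) (apk pe (apk pe1 (apk (ppow pdi 3) k 8) 8) 8))) ||
  inD k || inD (mu k (mu (ptc 2) (ptc 1)))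

theorem chk2_all : ∀ k < 512, chk2 k = true := by
  have : allN chk2 512 = true := by decide +kernel
  exact fun k hk => allN_iff.1 this k hk

theorem e_mem_or [Finite G] (X : Ctx Q z a) (g : Gens z a d e n) (p : Pair Q z A (a 0)) {y : G} (hy : y ∈ A)
    (hyz : y * z = z * y) (hye : Act z a y pe) : e ∈ A ∨ a 1 * e * a 1 ∈ A := by
  have nn := X.nine
  have hD := fun k hk => D_iff (k := k) X g p hy hyz hye hk
  obtain ⟨k, hk, rfl⟩ := exists_code_mul X hyz g.ez hye g.e_sl.act vpe vpe (by decide +kernel)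
  have hd0 : d * a 0 = a 0 * d := (comm_of_fix g.d_sl (by norm_num) (by decide +kernel)).symm
  have he0 : e * a 0 = a 0 * e := (comm_of_fix g.e_sl (by norm_num) (by decide +kernel)).symm
  have hdi : ∀ x ∈ A, d⁻¹ * x * d ∈ A := by
    intro x hx
    have := p.la.conj_mem d⁻¹ (comm_inv hd0) x hx
    rwa [inv_inv] at this
  have hst : ∀ x < 512, d⁻¹ * ph z a x * d = ph z a (apk pdi x 8) := by
    intro x hx
    have := Sl.ap nn (comm_inv g.dz) (Sl.d_inv g.d_sl) vpdi hx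
    rwa [inv_inv] at this
  have hst3 : ∀ x < 512, (d ^ 3)⁻¹ * ph z a x * d ^ 3 = ph z a (apk (ppow pdi 3) x 8) := by
    intro x hx
    have h1 : Sl a ((d ^ 3)⁻¹) (ppow pdi 3) := by rw [← inv_pow]; exact Sl.pow (Sl.d_inv g.d_sl) vpdi 3
    have := Sl.ap nn (comm_inv (comm_pow g.dz 3)) h1 (by decide +kernel) hx
    rwa [inv_inv] at this
  have hse : ∀ x < 512, e * ph z a x = ph z a (apk pe x 8) * e := by
    intro x hx
    rw [← Sl.ap nn g.ez g.e_sl vpe hx]; group
  have hse1 : ∀ x < 512, (d⁻¹ * e * d) * ph z a x = ph z a (apk pe1 x 8) * (d⁻¹ * e * d) := by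
    intro x hx
    have h1 : Sl a (d⁻¹ * e * d) pe1 := ((Sl.d_inv g.d_sl).mul g.e_sl vpe).mul g.d_sl vpd
    have h1z : (d⁻¹ * e * d) * z = z * (d⁻¹ * e * d) := comm_mul (comm_mul (comm_inv g.dz) g.ez) g.dz
    rw [← Sl.ap nn h1z h1 vpe1 hx]; group
  have k1 : apk pdi k 8 < 512 := apk8_lt vpdi hk
  have k3 : apk (ppow pdi 3) k 8 < 512 := apk8_lt (by decide +kernel) hk
  have a1lt : (1 : ℕ) < 512 := by norm_num
  -- the five conditions
  have c0 : mu k 1 = mu 1 k := by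
    rw [← ph_comm_iff nn hk a1lt, ph_one nn]
    have h1 : ph z a k * e * a 0 = a 0 * (ph z a k * e) := p.la.comm_z _ hy
    calc ph z a k * a 0 = ph z a k * (a 0 * e) * e⁻¹ := by group
      _ = (ph z a k * e * a 0) * e⁻¹ := by rw [← he0]; group
      _ = a 0 * ph z a k := by rw [h1]; group
  have hyy : ph z a k * e * (ph z a k * e) = ph z a (mu k (apk pe k 8)) := by
    calc ph z a k * e * (ph z a k * e) = ph z a k * (e * ph z a k) * e := by group
      _ = ph z a k * (ph z a (apk pe k 8) * e) * e := by rw [hse k hk]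
      _ = ph z a k * ph z a (apk pe k 8) * (e * e) := by group
      _ = _ := by rw [g.rel.e2, mul_one, ph_mul nn]
  have ke : apk pe k 8 < 512 := apk8_lt vpe hk
  have c1 : mu k (apk pe k 8) = 0 ∨ mu k (apk pe k 8) = 1 := by
    have h1 := p.la.sq _ hy
    rw [hyy] at h1
    rcases h1 with h1 | h1
    · left
      apply ph_inj nn (mu_lt hk ke) (by norm_num)
      rw [h1, ph_zero]
    · right
      apply ph_inj nn (mu_lt hk ke) (by norm_num)
      rw [h1, ph_one nn]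
  have hy1 : d⁻¹ * (ph z a k * e) * d = ph z a (apk pdi k 8) * (d⁻¹ * e * d) := by
    rw [← hst k hk]; group
  have hy1A : ph z a (apk pdi k 8) * (d⁻¹ * e * d) ∈ A := by rw [← hy1]; exact hdi _ hy
  have hyL : (ph z a k * e) * (ph z a (apk pdi k 8) * (d⁻¹ * e * d)) =
      ph z a (mu k (apk pe (apk pdi k 8) 8)) * (e * (d⁻¹ * e * d)) := by
    calc (ph z a k * e) * (ph z a (apk pdi k 8) * (d⁻¹ * e * d))
        = ph z a k * (e * ph z a (apk pdi k 8)) * (d⁻¹ * e * d) := by group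
      _ = _ := by rw [hse _ k1, ph_mul nn]; group
  have hyR : (ph z a (apk pdi k 8) * (d⁻¹ * e * d)) * (ph z a k * e) =
      ph z a (mu (apk pdi k 8) (apk pe1 k 8)) * (e * (d⁻¹ * e * d)) := by
    calc (ph z a (apk pdi k 8) * (d⁻¹ * e * d)) * (ph z a k * e)
        = ph z a (apk pdi k 8) * ((d⁻¹ * e * d) * ph z a k) * e := by group
      _ = ph z a (apk pdi k 8) * ph z a (apk pe1 k 8) * ((d⁻¹ * e * d) * e) := by rw [hse1 _ hk]; group
      _ = _ := by rw [← g.rel.ecomm, ph_mul nn]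
  have ke1 : apk pe (apk pdi k 8) 8 < 512 := apk8_lt vpe k1
  have k1e : apk pe1 k 8 < 512 := apk8_lt vpe1 hk
  have c2 : mu k (apk pe (apk pdi k 8) 8) = mu (apk pdi k 8) (apk pe1 k 8) ∨
      mu k (apk pe (apk pdi k 8) 8) = mu (mu (apk pdi k 8) (apk pe1 k 8)) 1 := by
    have hee0 : (e * (d⁻¹ * e * d)) * a 0 = a 0 * (e * (d⁻¹ * e * d)) :=
      comm_mul he0 (comm_mul (comm_mul (comm_inv hd0) he0) hd0)
    rcases p.la.comm _ hy _ hy1A with h1 | h1
    · left
      rw [hyL, hyR] at h1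
      exact ph_inj nn (mu_lt hk ke1) (mu_lt k1 k1e) (mul_right_cancel h1)
    · right
      rw [hyL, hyR] at h1
      refine ph_inj nn (mu_lt hk ke1) (mu_lt (mu_lt k1 k1e) (by norm_num)) ?_
      rw [ph_mul nn (mu (apk pdi k 8) (apk pe1 k 8)) 1, ph_one nn]
      apply mul_right_cancel (b := e * (d⁻¹ * e * d))
      rw [h1, mul_assoc _ _ (a 0), hee0, ← mul_assoc]
  have hy3 : (d ^ 3)⁻¹ * (ph z a k * e) * d ^ 3 = ph z a (apk (ppow pdi 3) k 8) * ((d ^ 3)⁻¹ * e * d ^ 3) := by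
    rw [← hst3 k hk]; group
  have hy3A : ph z a (apk (ppow pdi 3) k 8) * ((d ^ 3)⁻¹ * e * d ^ 3) ∈ A := by
    rw [← hy3]
    have := p.la.conj_mem (d ^ 3)⁻¹ (comm_inv (comm_pow hd0 3)) _ hy
    rwa [inv_inv] at this
  have k13 : apk pe1 (apk (ppow pdi 3) k 8) 8 < 512 := apk8_lt vpe1 k3
  have hprod : (ph z a k * e) * (ph z a (apk pdi k 8) * (d⁻¹ * e * d)) *
      (ph z a (apk (ppow pdi 3) k 8) * ((d ^ 3)⁻¹ * e * d ^ 3)) =
      ph z a (mu (mu k (apk pe (apk pdi k 8) 8)) (apk pe (apk pe1 (apk (ppow pdi 3) k 8) 8) 8)) := by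
    rw [hyL]
    calc ph z a (mu k (apk pe (apk pdi k 8) 8)) * (e * (d⁻¹ * e * d)) *
        (ph z a (apk (ppow pdi 3) k 8) * ((d ^ 3)⁻¹ * e * d ^ 3))
        = ph z a (mu k (apk pe (apk pdi k 8) 8)) * (e * ((d⁻¹ * e * d) * ph z a (apk (ppow pdi 3) k 8))) *
          ((d ^ 3)⁻¹ * e * d ^ 3) := by group
      _ = ph z a (mu k (apk pe (apk pdi k 8) 8)) * ((e * ph z a (apk pe1 (apk (ppow pdi 3) k 8) 8)) *
          (d⁻¹ * e * d)) * ((d ^ 3)⁻¹ * e * d ^ 3) := by rw [hse1 _ k3]; group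
      _ = ph z a (mu k (apk pe (apk pdi k 8) 8)) * ph z a (apk pe (apk pe1 (apk (ppow pdi 3) k 8) 8) 8) *
          (e * (d⁻¹ * e * d) * ((d ^ 3)⁻¹ * e * d ^ 3)) := by rw [hse _ k13]; group
      _ = _ := by rw [g.rel.e013, mul_one, ← ph_mul nn]
  have hlt : mu (mu k (apk pe (apk pdi k 8) 8)) (apk pe (apk pe1 (apk (ppow pdi 3) k 8) 8) 8) < 512 :=
    mu_lt (mu_lt hk ke1) (apk8_lt vpe k13)
  have c3 : inD (mu (mu k (apk pe (apk pdi k 8) 8)) (apk pe (apk pe1 (apk (ppow pdi 3) k 8) 8) 8)) = true := by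
    rw [← hD _ hlt, ← hprod]
    exact mul_mem (mul_mem hy hy1A) hy3A
  -- conclusion
  have hc := chk2_all k hk
  unfold chk2 at hc
  have b0 : Nat.beq (mu k 1) (mu 1 k) = true := by rw [c0]; exact Nat.beq_refl _
  have b1 : (Nat.beq (mu k (apk pe k 8)) 0 || Nat.beq (mu k (apk pe k 8)) 1) = true := by
    rcases c1 with h | h <;> rw [h] <;> rfl
  have b2 : (Nat.beq (mu k (apk pe (apk pdi k 8) 8)) (mu (apk pdi k 8) (apk pe1 k 8)) ||
    Nat.beq (mu k (apk pe (apk pdi k 8) 8)) (mu (mu (apk pdi k 8) (apk pe1 k 8)) 1)) = true := by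
    rw [Bool.or_eq_true]
    rcases c2 with h | h
    · left; rw [h]; exact Nat.beq_refl _
    · right; rw [h]; exact Nat.beq_refl _
  rw [b0, b1, b2, c3] at hc
  simp only [Bool.not_true, Bool.false_or, Bool.or_eq_true] at hc
  rcases hc with hc | hc
  · left
    have h1 : ph z a k ∈ A := (hD k hk).2 hc
    have := mul_mem (inv_mem h1) hy
    rwa [inv_mul_cancel_left] at this
  · right
    have h1 : ph z a (mu k (mu (ptc 2) (ptc 1))) ∈ A := (hD _ (mu_lt hk (by decide +kernel))).2 hc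
    have h2 := mul_mem (inv_mem h1) hy
    have h3 : (ph z a (mu k (mu (ptc 2) (ptc 1))))⁻¹ * (ph z a k * e) = a 1 * e * a 1 := by
      rw [ph_mul nn, ph_mul nn, ph_ptc nn (by norm_num), ph_ptc nn (by norm_num)]
      have i1 : (a 1)⁻¹ = a 1 := inv_eq_of_mul_eq_one_left (nn.sq 1 (by norm_num))
      have i2 : (a 2)⁻¹ = a 2 := inv_eq_of_mul_eq_one_left (nn.sq 2 (by norm_num))
      rw [mul_inv_rev, mul_inv_rev, i1, i2, ← ebe g]
      have e2 := g.rel.e2
      calc a 1 * (e * a 1 * e) * (ph z a k)⁻¹ * (ph z a k * e) = a 1 * e * a 1 * (e * e) := by group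
        _ = _ := by rw [e2, mul_one]
    rw [← h3]; exact h2

end

end Cfsg.Agent.TrialityTwo.StepD
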