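import Cfsg.Agent.TrialityTwo.StepU

/-!
# From `Lab` to `PΓL(2,8)` (helper814)

Given a labelling of the nine points by the projective line over `F₈` such that the translations are induced and are
the only involutions of `C(z)/Q` fixing `∞`, we relabel so that `u ↦ u/(u+1)` is induced; then `C(z)/Q` is
`L₂(8)` or `PΓL(2,8)` with its standard action.
-/

set_option autoImplicit false

namespace Cfsg.Agent.TrialityTwo.StepL

open Cfsg.Agent.LargeExtra.Model Cfsg.Agent.LargeExtra.Pres Cfsg.Agent.TrialityTwo.Nine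
open Cfsg.Agent.TrialityTwo.Perm Cfsg.Agent.TrialityTwo.Lift Cfsg.Agent.TrialityTwo.RelCx
open Cfsg.Agent.TrialityTwo.PGam Cfsg.Agent.TrialityTwo.StepD Cfsg.Agent.TrialityTwo.StepT
open Cfsg.Agent.TrialityTwo.Lab Cfsg.Agent.TrialityTwo.StepU
open Cfsg.Agent.Co2Type.Quad

/-! ### codes -/

theorem wcp {p q : ℕ} (hp : wp p = true) (hq : wp q = true) : wp (cp p q) = true := by
  refine wp_of (fun i hi => ?_) (fun i hi j hj hij => ?_)
  · rw [gt_cp _ _ hi]; exact wp_lt hp (wp_lt hq hi)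
  · rw [gt_cp _ _ hi, gt_cp _ _ hj] at hij
    exact wp_inj hq hi hj (wp_inj hp (wp_lt hq hi) (wp_lt hq hj) hij)

theorem exists_inv {p : ℕ} (hp : wp p = true) : ∃ q, wp q = true ∧ (∀ i < 9, gt p (gt q i) = i) ∧
    ∀ i < 9, gt q (gt p i) = i := by
  classical
  let f : Fin 9 → Fin 9 := fun i => ⟨gt p i, wp_lt hp i.2⟩
  have hf : Function.Injective f := fun i j hij => Fin.ext (wp_inj hp i.2 j.2 (congrArg Fin.val hij))
  have hb : Function.Bijective f := Finite.injective_iff_bijective.1 hf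
  obtain ⟨g, hg1, hg2⟩ := Function.bijective_iff_has_inverse.1 hb
  let F : ℕ → ℕ := fun i => if h : i < 9 then (g ⟨i, h⟩ : ℕ) else 0
  have hF : ∀ i, F i < 16 := by
    intro i
    by_cases h : i < 9
    · simp only [F, dif_pos h]
      have := (g ⟨i, h⟩).2
      omega
    · simp only [F, dif_neg h]; norm_num
  have hF' : ∀ i (h : i < 9), gt (mkp F 9) i = (g ⟨i, h⟩ : ℕ) := by
    intro i h
    rw [gt_mkp hF h]
    simp only [F, dif_pos h]
  have h1 : ∀ i < 9, gt p (gt (mkp F 9) i) = i := by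
    intro i hi
    rw [hF' i hi]
    exact congrArg Fin.val (hg2 ⟨i, hi⟩)
  have h2 : ∀ i < 9, gt (mkp F 9) (gt p i) = i := by
    intro i hi
    rw [hF' _ (wp_lt hp hi)]
    exact congrArg Fin.val (hg1 ⟨i, hi⟩)
  refine ⟨mkp F 9, wp_of (fun i hi => ?_) (fun i hi j hj hij => ?_), h1, h2⟩
  · rw [hF' i hi]; exact (g ⟨i, hi⟩).2
  · rw [← h1 i hi, ← h1 j hj, hij]

section

variable {G : Type*} [Group G] {Q : Subgroup G} {z : G} {b : ℕ → G}

theorem act_mul {c c' : G} {p p' : ℕ} (hc : c * z = z * c) (hz : z * z = 1) (h : Act z b c p)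
    (h' : Act z b c' p') (hp : ∀ i < 9, gt p' i < 9) : Act z b (c * c') (cp p p') := by
  intro i hi
  have e : c * c' * b i * (c * c')⁻¹ = c * (c' * b i * c'⁻¹) * c⁻¹ := by group
  have e2 : ∀ x : G, c * (z * x) * c⁻¹ = z * (c * x * c⁻¹) := by
    intro x
    calc c * (z * x) * c⁻¹ = (c * z) * x * c⁻¹ := by group
      _ = z * (c * x * c⁻¹) := by rw [hc]; group
  rw [e, gt_cp p p' hi]
  rcases h' i hi with h1 | h1 <;> rcases h _ (hp i hi) with h2 | h2
  · left; rw [h1, h2]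
  · right; rw [h1, h2]
  · right; rw [h1, e2, h2]
  · left; rw [h1, e2, h2, ← mul_assoc, hz, one_mul]

/-- codes induced by elements of `C(z)` -/
def Re (z : G) (b : ℕ → G) (p : ℕ) : Prop := wp p = true ∧ ∃ c, c * z = z * c ∧ Act z b c p

theorem Re.mul (hz : z * z = 1) {p q : ℕ} (h : Re z b p) (h' : Re z b q) : Re z b (cp p q) := by
  obtain ⟨hp, c, hc, hcp⟩ := h
  obtain ⟨hq, c', hc', hcq⟩ := h'
  exact ⟨wcp hp hq, c * c', comm_mul hc hc', act_mul hc hz hcp hcq fun i hi => wp_lt hq hi⟩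

theorem Re.inv (hz : z * z = 1) {p q : ℕ} (h : Re z b p) (hq : wp q = true)
    (hpq : ∀ i < 9, gt p (gt q i) = i) : Re z b q := by
  obtain ⟨hp, c, hc, hcp⟩ := h
  exact ⟨hq, c⁻¹, comm_inv hc, hcp.inv hc hz fun i hi => ⟨wp_lt hq hi, hpq i hi⟩⟩

theorem Re.congr {p q : ℕ} (h : Re z b p) (hpq : ∀ i < 9, gt p i = gt q i) : Re z b q := by
  obtain ⟨hp, c, hc, hcp⟩ := h
  refine ⟨wp_of (fun i hi => ?_) (fun i hi j hj hij => ?_), c, hc, hcp.congr hpq⟩
  · rw [← hpq i hi]; exact wp_lt hp hi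
  · rw [← hpq i hi, ← hpq j hj] at hij
    exact wp_inj hp hi hj hij

theorem wtri : ∀ i < 9, wp (tri i) = true := by decide +kernel

theorem Re.idp : Re z b idp :=
  ⟨by decide +kernel, 1, by rw [one_mul, mul_one], Act.one⟩

theorem re_tri (L : Lab Q z b) {i : ℕ} (hi : i < 9) : Re z b (tri i) := by
  rcases Nat.eq_zero_or_pos i with h | h
  · subst h; exact Re.idp
  · obtain ⟨c, hc, hc'⟩ := L.tr i h hi
    exact ⟨wtri i hi, c, hc, hc'⟩

theorem re_inv (L : Lab Q z b) {p : ℕ} (h : Re z b p) (h0 : gt p 0 = 0)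
    (hpp : ∀ i < 9, gt p (gt p i) = i) : ∃ i, 1 ≤ i ∧ i < 9 ∧ ∀ j < 9, gt p j = gt (tri i) j := by
  obtain ⟨hp, c, hc, hcp⟩ := h
  exact L.inv c p hc hp hcp h0 hpp

/-- the value at `1` determines the translation -/
theorem tri_one : ∀ i < 9, 1 ≤ i → gt (tri i) 1 = i := by decide +kernel

theorem tri_tri : ∀ i < 9, 1 ≤ i → gt (tri i) 0 = 0 ∧ ∀ j < 9, gt (tri i) (gt (tri i) j) = j := by
  decide +kernel

set_option synthInstance.maxSize 1000 in
theorem tri_trans : ∀ x < 9, ∀ y < 9, 1 ≤ x → 1 ≤ y → ∃ k < 9, 1 ≤ k ∧ gt (tri k) x = y ∧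
    (x = y ∨ ¬ k = 1) := by decide +kernel

theorem tri_fix : ∀ k < 9, 1 ≤ k → k ≠ 1 → ∀ j < 9, gt (tri k) j = j → j = 0 := by decide +kernel

/-- an involution swapping `∞` and `1` and fixing `0` -/
theorem exists_u (L : Lab Q z b) : ∃ u, Re z b u ∧ u = mkp (gt u) 9 ∧ gt u 0 = 2 ∧ gt u 1 = 1 ∧
    gt u 2 = 0 ∧ (∀ i < 9, gt u (gt u i) = i) ∧ ∀ i < 9, i ≠ 1 → gt u i ≠ i := by
  have hz := L.ctx.nine.zz
  obtain ⟨c, g, hc, hg, hcg, hg0⟩ := L.trans 1 (by norm_num)
  have hgR : Re z b g := ⟨hg, c, hc, hcg⟩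
  obtain ⟨g', hg', h1, h2⟩ := exists_inv hg
  have hgR' : Re z b g' := hgR.inv hz hg' h1
  have hg1' : gt g' 1 = 0 := by rw [← hg0]; exact h2 0 (by norm_num)
  have x0 : 1 ≤ gt g' 0 := by
    by_contra hcon
    have e : gt g' 0 = gt g' 1 := by omega
    have := wp_inj hg' (by norm_num) (by norm_num) e
    omega
  have x2 : 1 ≤ gt g' 2 := by
    by_contra hcon
    have e : gt g' 2 = gt g' 1 := by omega
    have := wp_inj hg' (by norm_num) (by norm_num) e
    omega
  obtain ⟨k, hk, hk1, hk2, hk3⟩ := tri_trans _ (wp_lt hg' (by norm_num : (0 : ℕ) < 9)) _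
    (wp_lt hg' (by norm_num : (2 : ℕ) < 9)) x0 x2
  have hkne : k ≠ 1 := hk3.resolve_left fun e => by
    have := wp_inj hg' (by norm_num) (by norm_num) e
    omega
  obtain ⟨t0, tt⟩ := tri_tri k hk hk1
  set u := cp (cp g (tri k)) g' with hu
  have hgu : ∀ i < 9, gt u i = gt g (gt (tri k) (gt g' i)) := by
    intro i hi
    rw [hu, gt_cp _ _ hi, gt_cp _ _ (wp_lt hg' hi)]
  have ht : ∀ i < 9, gt (tri k) i < 9 := fun i hi => wp_lt (wtri k hk) hi
  have huu : ∀ i < 9, gt u (gt u i) = i := by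
    intro i hi
    have hlt : gt u i < 9 := by rw [hgu i hi]; exact wp_lt hg (ht _ (wp_lt hg' hi))
    rw [hgu _ hlt, hgu i hi, h2 _ (ht _ (wp_lt hg' hi)), tt _ (wp_lt hg' hi), h1 i hi]
  have hu0 : gt u 0 = 2 := by
    rw [hgu 0 (by norm_num), hk2]
    exact h1 2 (by norm_num)
  refine ⟨u, ((hgR.mul hz (re_tri L hk)).mul hz hgR'), ?_, hu0, ?_, ?_, huu, ?_⟩
  · rw [hu]
    show mkp _ 9 = mkp _ 9
    exact mkp_congr fun i hi => (gt_cp _ _ hi).symm
  · rw [hgu 1 (by norm_num), hg1', t0, hg0]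
  · have := huu 0 (by norm_num)
    rwa [hu0] at this
  · intro i hi hne he
    rw [hgu i hi] at he
    have h3 : gt (tri k) (gt g' i) = gt g' i := by
      rw [← h2 _ (ht _ (wp_lt hg' hi)), he]
    have h4 := tri_fix k hk hk1 hkne _ (wp_lt hg' hi) h3
    apply hne
    have h5 := h1 i hi
    rw [h4, hg0] at h5
    exact h5.symm

/-! ### the fifteen possibilities -/

/-- search over the codes of the fixed point free involutions of `{3, …, 8}` -/
def srch (f : ℕ → Bool) : ℕ → ℕ → ℕ → Bool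
  | 0, _, acc => f acc
  | n + 1, k, acc => allN (fun x => Nat.blt x 3 || Nat.beq x k ||
      (Nat.blt x k && !(Nat.beq (gt acc x) k)) || !(allN (fun j => !(Nat.beq (gt acc j) x)) k) ||
      srch f n (k + 1) (Nat.add acc (Nat.mul x (Nat.pow 16 k)))) 9

theorem srch_spec {f : ℕ → Bool} {p : ℕ} (hp : wp p = true) (hpp : ∀ i < 9, gt p (gt p i) = i)
    (hfix : ∀ i < 9, i ≠ 1 → gt p i ≠ i) (h3 : ∀ i < 9, 3 ≤ i → 3 ≤ gt p i) :
    ∀ n k, k + n ≤ 9 → 3 ≤ k → srch f n k (mkp (gt p) k) = true → f (mkp (gt p) (k + n)) = true := by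
  intro n
  induction n with
  | zero => intro k _ _ h; exact h
  | succ n ih =>
    intro k hk hk3 h
    unfold srch at h
    rw [allN_iff] at h
    have hk9 : k < 9 := by omega
    have h1 := h (gt p k) (wp_lt hp hk9)
    have hgt : ∀ j < k, gt (mkp (gt p) k) j = gt p j := fun j hj => gt_mkp (fun i => gt_lt p i) hj
    have b1 : Nat.blt (gt p k) 3 = false := by
      rw [Bool.eq_false_iff]
      intro h2
      have h2' : Nat.ble (gt p k + 1) 3 = true := h2
      have h4 := Nat.le_of_ble_eq_true h2'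
      have := h3 k hk9 hk3
      omega
    have b2 : Nat.beq (gt p k) k = false := by
      rw [Bool.eq_false_iff]
      intro h2
      exact hfix k hk9 (by omega) (Nat.eq_of_beq_eq_true h2)
    have b3 : (Nat.blt (gt p k) k && !(Nat.beq (gt (mkp (gt p) k) (gt p k)) k)) = false := by
      rw [Bool.eq_false_iff]
      intro h2
      rw [Bool.and_eq_true] at h2
      have h4 : gt p k < k := Nat.le_of_ble_eq_true h2.1
      rw [hgt _ h4, hpp k hk9] at h2
      simp at h2
    have b4 : (!(allN (fun j => !(Nat.beq (gt (mkp (gt p) k) j) (gt p k))) k)) = false := by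
      rw [Bool.eq_false_iff]
      intro h2
      have h5 : allN (fun j => !(Nat.beq (gt (mkp (gt p) k) j) (gt p k))) k = true := by
        rw [allN_iff]
        intro j hj
        rw [hgt j hj]
        have : Nat.beq (gt p j) (gt p k) = false := by
          rw [Bool.eq_false_iff]
          intro h6
          have := wp_inj hp (by omega) hk9 (Nat.eq_of_beq_eq_true h6)
          omega
        rw [this]; rfl
      rw [h5] at h2
      exact absurd h2 (by decide)
    rw [b1, b2, b3, b4] at h1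
    simp only [Bool.false_or] at h1
    have h2 := ih (k + 1) (by omega) (by omega) h1
    have e : k + 1 + n = k + (n + 1) := by omega
    rwa [e] at h2

/-- evaluation of words: letter `0` is `m`, letter `i` is `tri i` -/
def evw (m : ℕ) : List ℕ → ℕ
  | [] => idp
  | l :: w => cp (bif Nat.beq l 0 then m else tri l) (evw m w)

theorem re_evw (L : Lab Q z b) {m : ℕ} (hm : Re z b m) : ∀ w : List ℕ, (∀ l ∈ w, l < 9) →
    Re z b (evw m w) := by
  intro w
  induction w with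
  | nil => intro _; exact Re.idp
  | cons l w ih =>
    intro hw
    show Re z b (cp (bif Nat.beq l 0 then m else tri l) (evw m w))
    refine Re.mul L.ctx.nine.zz ?_ (ih fun x hx => hw x (List.mem_cons_of_mem _ hx))
    cases h : Nat.beq l 0
    · exact re_tri L (hw l List.mem_cons_self)
    · exact hm

/-- the word shows that `m` is impossible -/
def badw (m : ℕ) (w : List ℕ) : Bool :=
  Nat.beq (gt (evw m w) 0) 0 && (allN (fun i => Nat.beq (gt (evw m w) (gt (evw m w) i)) i) 9 &&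
    allN (fun k => !(allN (fun j => Nat.beq (gt (evw m w) j) (gt (tri k) j)) 9)) 9)

theorem not_badw (L : Lab Q z b) {m : ℕ} (hm : Re z b m) {w : List ℕ} (hw : ∀ l ∈ w, l < 9)
    (h : badw m w = true) : False := by
  unfold badw at h
  rw [Bool.and_eq_true, Bool.and_eq_true, allN_iff, allN_iff] at h
  obtain ⟨h1, h2, h3⟩ := h
  obtain ⟨i, -, hi, hi'⟩ := re_inv L (re_evw L hm w hw) (Nat.eq_of_beq_eq_true h1)
    (fun i hi => Nat.eq_of_beq_eq_true (h2 i hi))
  have h4 := h3 i hi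
  have h5 : allN (fun j => Nat.beq (gt (evw m w) j) (gt (tri i) j)) 9 = true := by
    rw [allN_iff]
    intro j hj
    rw [hi' j hj]
    exact Nat.beq_refl _
  rw [h5] at h4
  exact absurd h4 (by decide)

/-- `x ↦ x/(x+1)` -/
def pu : ℕ := 0x638457012

/-- linear maps fixing `1` -/
def gam : ℕ → ℕ
  | 0 => 0x635874210
  | 1 => 0x648573210
  | 2 => 0x748365210
  | 3 => 0x467583210
  | 4 => 0x876543210
  | 5 => 0x367854210
  | 6 => 0x476385210
  | _ => 0x784563210

/-- their inverses -/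
def gami : ℕ → ℕ
  | 0 => 0x548637210
  | 1 => 0x648573210
  | 2 => 0x684375210
  | 3 => 0x467583210
  | 4 => 0x876543210
  | 5 => 0x567438210
  | 6 => 0x476385210
  | _ => 0x784563210

/-- check at a leaf -/
def leaf (m : ℕ) : Bool :=
  badw m [0, 2, 0, 2, 0] || badw m [0, 3, 0, 3, 0, 3, 0, 3, 0] ||
    !(allN (fun k => !(allN (fun i => Nat.beq (gt m (gt (gam k) i)) (gt (gam k) (gt pu i))) 9)) 8)

theorem srch_leaf : srch leaf 6 3 0x012 = true := by decide +kernel

theorem exists_gam (L : Lab Q z b) : ∃ k < 8, ∃ u, Re z b u ∧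
    ∀ i < 9, gt u (gt (gam k) i) = gt (gam k) (gt pu i) := by
  obtain ⟨u, hu, hun, u0, u1, u2, huu, hfix⟩ := exists_u L
  have hwu := hu.1
  have h3 : ∀ i < 9, 3 ≤ i → 3 ≤ gt u i := by
    intro i hi hi3
    by_contra hcon
    have h4 : gt u i = 0 ∨ gt u i = 1 ∨ gt u i = 2 := by omega
    rcases h4 with h4 | h4 | h4
    · have := wp_inj hwu hi (by norm_num : (2 : ℕ) < 9) (by rw [h4, u2])
      omega
    · have := wp_inj hwu hi (by norm_num : (1 : ℕ) < 9) (by rw [h4, u1])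
      omega
    · have := wp_inj hwu hi (by norm_num : (0 : ℕ) < 9) (by rw [h4, u0])
      omega
  have e3 : mkp (gt u) 3 = 0x012 := by
    show Nat.add (Nat.add (Nat.add 0 (Nat.mul (gt u 0) (Nat.pow 16 0))) (Nat.mul (gt u 1) (Nat.pow 16 1)))
      (Nat.mul (gt u 2) (Nat.pow 16 2)) = _
    rw [u0, u1, u2]
  have h4 := srch_spec (f := leaf) hwu huu hfix h3 6 3 (by norm_num) (by norm_num) (by rw [e3]; exact srch_leaf)
  have e9 : mkp (gt u) (3 + 6) = u := hun.symm
  rw [e9] at h4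
  unfold leaf at h4
  rw [Bool.or_eq_true, Bool.or_eq_true] at h4
  rcases h4 with (h4 | h4) | h4
  · exact (not_badw L hu (by decide) h4).elim
  · exact (not_badw L hu (by decide) h4).elim
  · obtain ⟨k, hk, hk'⟩ := exists_of_allN (n := 8)
      (f := fun k => allN (fun i => Nat.beq (gt u (gt (gam k) i)) (gt (gam k) (gt pu i))) 9) h4
    rw [allN_iff] at hk'
    exact ⟨k, hk, u, hu, fun i hi => Nat.eq_of_beq_eq_true (hk' i hi)⟩

/-! ### relabelling -/

theorem nine_relabel (nn : Nine z b) {p : ℕ} (hp : vp p = true) : Nine z (fun i => b (gt p i)) where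
  z_ne := nn.z_ne
  zz := nn.zz
  comm i hi := nn.comm _ (vp_lt hp hi)
  sq i hi := nn.sq _ (vp_lt hp hi)
  anti i hi j hj := anti' nn (vp_lt hp hi) (vp_lt hp (by omega)) fun h => by
    have := vp_inj hp hi (by omega) h
    omega
  prod := by
    have key : ∀ k ≤ 8, ph z b (apk p 511 k) = z * prd (fun i => b (gt p i)) k 255 := by
      intro k
      induction k with
      | zero =>
        intro _
        show ph z b (Nat.land 511 256) = z * 1
        have : Nat.land 511 256 = 256 := by decide +kernel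
        rw [this, ph_z, mul_one]
      | succ k ih =>
        intro hk
        have ih' := ih (by omega)
        have e1 : ∀ k < 8, Nat.testBit 511 k = true ∧ Nat.testBit 255 k = true := by decide +kernel
        show ph z b (bif Nat.testBit 511 k then mu (apk p 511 k) (ptc (gt p k)) else apk p 511 k) =
          z * (prd (fun i => b (gt p i)) k 255 * zp (b (gt p k)) (Nat.testBit 255 k))
        rw [(e1 k (by omega)).1, (e1 k (by omega)).2]
        show ph z b (mu (apk p 511 k) (ptc (gt p k))) = z * (prd (fun i => b (gt p i)) k 255 * b (gt p k))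
        rw [ph_mul nn, ph_ptc nn (vp_lt hp (by omega)), ih', mul_assoc]
    have h8 := key 8 (le_refl 8)
    rw [vp_even hp, ph_ptc nn (vp_lt hp (by norm_num))] at h8
    exact h8

theorem gam_facts : ∀ k < 8, vp (gam k) = true ∧ wp (gami k) = true ∧ gt (gam k) 0 = 0 ∧
    gt (gami k) 0 = 0 ∧ (∀ i < 9, gt (gam k) (gt (gami k) i) = i ∧ gt (gami k) (gt (gam k) i) = i) ∧
    (∀ i < 9, 1 ≤ i → ∀ j < 9, gt (gam k) (gt (tri i) j) = gt (tri (gt (gam k) i)) (gt (gam k) j)) := by
  decide +kernel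

theorem act_relabel {c : G} {p p' γ : ℕ} (h : Act z b c p) (hγ : ∀ i < 9, gt γ i < 9)
    (hpp : ∀ i < 9, gt p (gt γ i) = gt γ (gt p' i)) : Act z (fun i => b (gt γ i)) c p' := by
  intro i hi
  have := h (gt γ i) (hγ i hi)
  rwa [hpp i hi] at this

theorem act_unlabel {c : G} {p p' γ γ' : ℕ} (h : Act z (fun i => b (gt γ i)) c p') (hγ' : ∀ i < 9, gt γ' i < 9)
    (hγγ : ∀ i < 9, gt γ (gt γ' i) = i)
    (hpp : ∀ i < 9, gt p i = gt γ (gt p' (gt γ' i))) : Act z b c p := by
  intro i hi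
  have := h (gt γ' i) (hγ' i hi)
  simp only [hγγ i hi] at this
  rwa [← hpp i hi] at this

theorem lab_relabel (L : Lab Q z b) {k : ℕ} (hk : k < 8) : Lab Q z (fun i => b (gt (gam k) i)) := by
  obtain ⟨hv, hwi, g0, gi0, gg, gt3⟩ := gam_facts k hk
  have hlt : ∀ i < 9, gt (gam k) i < 9 := fun i hi => vp_lt hv hi
  have hlti : ∀ i < 9, gt (gami k) i < 9 := fun i hi => wp_lt hwi hi
  have hg1 : ∀ i < 9, 1 ≤ i → 1 ≤ gt (gam k) i := by
    intro i hi hi1
    by_contra hcon
    have := vp_inj hv hi (by norm_num : (0 : ℕ) < 9) (by omega)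
    omega
  have hwg : wp (gam k) = true := wp_of_vp hv
  -- conjugation of codes
  have cj : ∀ p, wp p = true → wp (cp (cp (gami k) p) (gam k)) = true ∧
      ∀ i < 9, gt p (gt (gam k) i) = gt (gam k) (gt (cp (cp (gami k) p) (gam k)) i) := by
    intro p hp
    refine ⟨wcp (wcp hwi hp) hwg, fun i hi => ?_⟩
    rw [gt_cp _ _ hi, gt_cp _ _ (hlt i hi), (gg _ (wp_lt hp (hlt i hi))).1]
  refine ⟨⟨L.ctx.large, nine_relabel L.ctx.nine hv, fun i hi => L.ctx.mem _ (hlt i hi), L.ctx.card⟩,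
    ?_, ?_, ?_, ?_⟩
  · intro c hc
    obtain ⟨p, hp, hcp⟩ := L.act c hc
    obtain ⟨h1, h2⟩ := cj p hp
    exact ⟨_, h1, act_relabel hcp hlt h2⟩
  · intro i hi
    obtain ⟨c, p, hc, hp, hcp, hp0⟩ := L.trans (gt (gam k) i) (hlt i hi)
    obtain ⟨h1, h2⟩ := cj p hp
    refine ⟨c, _, hc, h1, act_relabel hcp hlt h2, ?_⟩
    rw [gt_cp _ _ (by norm_num : (0 : ℕ) < 9), g0, gt_cp _ _ (by norm_num : (0 : ℕ) < 9), hp0]
    exact (gg i hi).2
  · intro i hi1 hi
    obtain ⟨c, hc, hct⟩ := L.tr (gt (gam k) i) (hg1 i hi hi1) (hlt i hi)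
    refine ⟨c, hc, act_relabel hct hlt fun j hj => ?_⟩
    exact (gt3 i hi hi1 j hj).symm
  · intro c p hc hp hcp hp0 hpp
    have hplt : ∀ i < 9, gt p i < 9 := fun i hi => wp_lt hp hi
    have hgc : ∀ i < 9, gt (cp (cp (gam k) p) (gami k)) i = gt (gam k) (gt p (gt (gami k) i)) := by
      intro i hi
      rw [gt_cp _ _ hi, gt_cp _ _ (hlti i hi)]
    have h1 : Act z b c (cp (cp (gam k) p) (gami k)) :=
      act_unlabel hcp hlti (fun i hi => (gg i hi).1) hgc
    obtain ⟨i, hi1, hi, hi'⟩ := L.inv c _ hc (wcp (wcp hwg hp) hwi) h1 (by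
      rw [hgc 0 (by norm_num), gi0, hp0, g0]) (by
      intro j hj
      have hj' : gt (gam k) (gt p (gt (gami k) j)) < 9 := hlt _ (hplt _ (hlti j hj))
      rw [hgc j hj, hgc _ hj', (gg _ (hplt _ (hlti j hj))).2, hpp _ (hlti j hj), (gg j hj).1])
    have hii : 1 ≤ gt (gami k) i := by
      by_contra hcon
      have h5 : gt (gami k) i = 0 := by omega
      have h6 := (gg i hi).1
      rw [h5, g0] at h6
      omega
    refine ⟨gt (gami k) i, hii, hlti i hi, fun j hj => ?_⟩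
    have h7 := hi' (gt (gam k) j) (hlt j hj)
    rw [hgc _ (hlt j hj), (gg j hj).2] at h7
    have h8 := gt3 (gt (gami k) i) (hlti i hi) hii j hj
    rw [(gg i hi).1, ← h7] at h8
    exact (vp_inj hv (wp_lt (wtri _ (hlti i hi)) hj) (hplt j hj) h8).symm

theorem re_relabel {k : ℕ} (hk : k < 8) {u p : ℕ} (hu : Re z b u) (hp : wp p = true)
    (h : ∀ i < 9, gt u (gt (gam k) i) = gt (gam k) (gt p i)) : Re z (fun i => b (gt (gam k) i)) p := by
  obtain ⟨hv, -⟩ := gam_facts k hk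
  obtain ⟨hu1, c, hc, hcu⟩ := hu
  exact ⟨hp, c, hc, act_relabel hcu (fun i hi => vp_lt hv hi) h⟩

/-- **Normalisation of the labelling.** -/
theorem exists_lab (L : Lab Q z b) : ∃ a : ℕ → G, a 0 = b 0 ∧ Lab Q z a ∧ Re z a pu := by
  obtain ⟨k, hk, u, hu, h⟩ := exists_gam L
  refine ⟨fun i => b (gt (gam k) i), ?_, lab_relabel L hk, re_relabel hk hu (by decide +kernel) h⟩
  show b (gt (gam k) 0) = b 0
  rw [(gam_facts k hk).2.2.1]

/-! ### `L₂(8)` -/

theorem pe_eq : tri 2 = pe := rfl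
theorem pn_eq : cp (cp pe pu) pe = pn := by decide +kernel
theorem pd_eq : cp (cp (cp (cp (cp pn (tri 6)) pn) (tri 5)) pn) (tri 6) = pd := by decide +kernel

theorem re_pe (L : Lab Q z b) : Re z b pe := re_tri L (i := 2) (by norm_num)

theorem re_pn (L : Lab Q z b) (h : Re z b pu) : Re z b pn := by
  rw [← pn_eq]
  exact ((re_pe L).mul L.ctx.nine.zz h).mul L.ctx.nine.zz (re_pe L)

theorem re_pd (L : Lab Q z b) (h : Re z b pu) : Re z b pd := by
  rw [← pd_eq]
  have hz := L.ctx.nine.zz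
  have hn := re_pn L h
  have h6 := re_tri L (i := 6) (by norm_num)
  have h5 := re_tri L (i := 5) (by norm_num)
  exact ((((hn.mul hz h6).mul hz hn).mul hz h5).mul hz hn).mul hz h6

end

end Cfsg.Agent.TrialityTwo.StepL
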