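import Cfsg.Agent.TrialityTwo.StepL

/-!
# `C(z)/Q` is contained in `PΓL(2,8)` (helper814)
-/

set_option autoImplicit false

namespace Cfsg.Agent.TrialityTwo.StepM

open Cfsg.Agent.LargeExtra.Model Cfsg.Agent.LargeExtra.Pres Cfsg.Agent.TrialityTwo.Nine
open Cfsg.Agent.TrialityTwo.Perm Cfsg.Agent.TrialityTwo.Lift Cfsg.Agent.TrialityTwo.RelCx
open Cfsg.Agent.TrialityTwo.PGam Cfsg.Agent.TrialityTwo.StepD Cfsg.Agent.TrialityTwo.StepT
open Cfsg.Agent.TrialityTwo.Lab Cfsg.Agent.TrialityTwo.StepU Cfsg.Agent.TrialityTwo.StepL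
open Cfsg.Agent.Co2Type.Quad

/-- takes `k` to `∞` -/
def q0 (k : ℕ) : ℕ := bif Nat.beq k 0 then idp else cp pn (tri k)
def q0i (k : ℕ) : ℕ := bif Nat.beq k 0 then idp else cp (tri k) pn

theorem q0_facts : ∀ k < 9, wp (q0 k) = true ∧ gt (q0 k) k = 0 ∧
    ∀ i < 9, gt (q0i k) (gt (q0 k) i) = i := by decide +kernel

theorem trj_facts : ∀ j < 9, 1 ≤ j → gt (tri j) 0 = 0 ∧ gt (tri j) j = 1 := by decide +kernel

theorem pow_facts : ∀ m < 7, wp (ppow pd m) = true ∧ gt (ppow pd m) 0 = 0 ∧ gt (ppow pd m) 1 = 1 ∧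
    gt (ppow pd m) (2 + m) = 2 ∧ ∀ i < 9, gt (ppow pdi m) (gt (ppow pd m) i) = i := by decide +kernel

/-- the powers of the Frobenius map -/
def sg : ℕ → ℕ
  | 0 => 0x876543210
  | 1 => 0x753864210
  | _ => 0x584736210

/-- a linear map fixing `1` is determined by the images of `μ` and `μ²` -/
def candf (x y : ℕ) : ℕ → ℕ
  | 0 => 0
  | 1 => 1
  | 2 => 2
  | 3 => x
  | 4 => y
  | 5 => gt (tri 2) x
  | 6 => gt (tri x) y
  | 7 => gt (tri (gt (tri 2) x)) y
  | _ => gt (tri 2) y

def cand (x y : ℕ) : ℕ := mkp (candf x y) 9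

def chkS (x y : ℕ) : Bool :=
  !(allN (fun i => Nat.beq (gt (cand x y) (gt pu i)) (gt pu (gt (cand x y) i))) 9) ||
    !(wp (cand x y)) || !(allN (fun s => !(Nat.beq (cand x y) (sg s))) 3)

theorem chkS_all : ∀ x < 9, ∀ y < 9, chkS x y = true := by decide +kernel

/-- the codes of `q0i k ∘ tri j` and of `pdi ^ m ∘ sg s` -/
def T1 : List ℕ := [
  0x876543210, 0x876543210, 0x467385120, 0x784261530, 0x253716840, 0x648172350, 0x521834760, 0x312458670, 0x135627480,
  0x345678201, 0x345678201, 0x754836021, 0x437250681, 0x268405371, 0x573042861, 0x620387451, 0x802763541, 0x86524731,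
  0x583764102, 0x583764102, 0x638457012, 0x856130742, 0x174803562, 0x365081472, 0x710546832, 0x401675382, 0x47318652,
  0x162487503, 0x162487503, 0x826714053, 0x618520473, 0x547602183, 0x281065743, 0x450178623, 0x705841263, 0x74256813,
  0x617352804, 0x617352804, 0x571263084, 0x165870324, 0x832107654, 0x756018234, 0x380625174, 0x208536714, 0x23781564,
  0x271846305, 0x271846305, 0x417628035, 0x724310865, 0x386701245, 0x142073685, 0x830264715, 0x603482175, 0x68137425,
  0x438125706, 0x438125706, 0x283541076, 0x342780156, 0x715308426, 0x824037516, 0x170452386, 0x507214836, 0x51873246,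
  0x854213607, 0x854213607, 0x145382067, 0x581640237, 0x623504817, 0x418056327, 0x260831547, 0x306128457, 0x32465187,
  0x726531408, 0x726531408, 0x362175048, 0x273460518, 0x451206738, 0x637024158, 0x540713268, 0x104357628, 0x15642378]

/-- see `T1` -/
def T2 : List ℕ := [
  0x876543210, 0x753864210, 0x584736210, 0x287654310, 0x864275310, 0x625847310, 0x328765410, 0x275386410, 0x736258410,
  0x432876510, 0x386427510, 0x847362510, 0x543287610, 0x427538610, 0x258473610, 0x654328710, 0x538642710, 0x362584710,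
  0x765432810, 0x642753810, 0x473625810]

theorem T1_eq : ∀ k < 9, ∀ j < 9, T1[9 * k + j]? = some (cp (q0i k) (tri j)) := by decide +kernel

theorem T2_eq : ∀ m < 7, ∀ s < 3, T2[3 * m + s]? = some (cp (ppow pdi m) (sg s)) := by decide +kernel

theorem T_mem : (T1.all fun x => T2.all fun y => PG.mem (cp x y)) = true := by decide +kernel

theorem mem_PG {k j m s : ℕ} (hk : k < 9) (hj : j < 9) (hm : m < 7) (hs : s < 3) :
    PG.mem (cp (cp (q0i k) (tri j)) (cp (ppow pdi m) (sg s))) = true := by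
  have h := T_mem
  rw [List.all_eq_true] at h
  have h1 := h _ (List.mem_of_getElem? (T1_eq k hk j hj))
  rw [List.all_eq_true] at h1
  exact h1 _ (List.mem_of_getElem? (T2_eq m hm s hs))

section

variable {G : Type*} [Group G] {Q : Subgroup G} {z : G} {b : ℕ → G}

theorem cand_of (L : Lab Q z b) (hu : Re z b pu) {p : ℕ} (h : Re z b p) (h0 : gt p 0 = 0)
    (h1 : gt p 1 = 1) (h2 : gt p 2 = 2) : ∃ s < 3, ∀ i < 9, gt p i = gt (sg s) i := by
  have hz := L.ctx.nine.zz
  have hp := h.1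
  obtain ⟨p', hp', e1, e2⟩ := exists_inv hp
  have hR' := h.inv hz hp' e1
  have h0' : gt p' 0 = 0 := by have := e2 0 (by norm_num); rwa [h0] at this
  have h1' : gt p' 1 = 1 := by have := e2 1 (by norm_num); rwa [h1] at this
  have h2' : gt p' 2 = 2 := by have := e2 2 (by norm_num); rwa [h2] at this
  have hlt : ∀ i < 9, gt p i < 9 := fun i hi => wp_lt hp hi
  have hlt' : ∀ i < 9, gt p' i < 9 := fun i hi => wp_lt hp' hi
  have hpos : ∀ i < 9, 1 ≤ i → 1 ≤ gt p i := by
    intro i hi hi1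
    by_contra hcon
    have := wp_inj hp hi (by norm_num : (0 : ℕ) < 9) (by omega)
    omega
  -- semilinearity
  have lin : ∀ i < 9, 1 ≤ i → ∀ x < 9, gt p (gt (tri i) x) = gt (tri (gt p i)) (gt p x) := by
    intro i hi hi1 x hx
    obtain ⟨t0, tt⟩ := tri_tri i hi hi1
    have tlt : ∀ j < 9, gt (tri i) j < 9 := fun j hj => wp_lt (wtri i hi) hj
    have hq : ∀ j < 9, gt (cp (cp p (tri i)) p') j = gt p (gt (tri i) (gt p' j)) := by
      intro j hj
      rw [gt_cp _ _ hj, gt_cp _ _ (hlt' j hj)]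
    obtain ⟨k, hk1, hk, hk'⟩ := re_inv L ((h.mul hz (re_tri L hi)).mul hz hR') (by
      rw [hq 0 (by norm_num), h0', t0, h0]) (by
      intro j hj
      have hj' : gt p (gt (tri i) (gt p' j)) < 9 := hlt _ (tlt _ (hlt' j hj))
      rw [hq j hj, hq _ hj', e2 _ (tlt _ (hlt' j hj)), tt _ (hlt' j hj), e1 j hj])
    have hk2 : k = gt p i := by
      have := hk' 1 (by norm_num)
      rw [hq 1 (by norm_num), h1', tri_one i hi hi1, tri_one k hk hk1] at this
      exact this.symm
    have h3 := hk' (gt p x) (hlt x hx)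
    rw [hq _ (hlt x hx), e2 x hx, hk2] at h3
    exact h3
  -- commutes with `u`
  have hun : ∀ i < 9, gt (cp (cp p pu) p') i = gt p (gt pu (gt p' i)) := by
    intro i hi
    rw [gt_cp _ _ hi, gt_cp _ _ (hlt' i hi)]
  have upu : ∀ i < 9, gt pu i < 9 ∧ gt pu (gt pu i) = i := by decide +kernel
  have hcomm : ∀ i < 9, gt p (gt pu i) = gt pu (gt p i) := by
    set v := cp (cp p pu) p' with hv
    have hvR : Re z b v := (h.mul hz hu).mul hz hR'
    have hvlt : ∀ i < 9, gt v i < 9 := fun i hi => wp_lt hvR.1 hi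
    have hvv : ∀ i < 9, gt v (gt v i) = i := by
      intro i hi
      have a1 := (upu _ (hlt' i hi))
      rw [hun _ (hvlt i hi), hun i hi, e2 _ a1.1, a1.2, e1 i hi]
    have hv0 : gt v 0 = 2 := by
      rw [hun 0 (by norm_num), h0']
      have : gt pu 0 = 2 := by decide +kernel
      rw [this, h2]
    have hv1 : gt v 1 = 1 := by
      rw [hun 1 (by norm_num), h1']
      have : gt pu 1 = 1 := by decide +kernel
      rw [this, h1]
    have pnn : ∀ i < 9, gt pn i < 9 ∧ gt pn (gt pn i) = i := by decide +kernel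
    have hw : ∀ i < 9, gt (cp (cp pn v) pn) i = gt pn (gt v (gt pn i)) := by
      intro i hi
      rw [gt_cp _ _ hi, gt_cp _ _ (pnn i hi).1]
    have n0 : gt pn 0 = 1 := by decide +kernel
    have n1 : gt pn 1 = 0 := by decide +kernel
    have n2 : gt pn 2 = 2 := by decide +kernel
    have hnR := re_pn L hu
    obtain ⟨k, hk1, hk, hk'⟩ := re_inv L ((hnR.mul hz hvR).mul hz hnR) (by
      rw [hw 0 (by norm_num), n0, hv1, n1]) (by
      intro j hj
      have a1 := pnn j hj
      have a2 := pnn _ (hvlt _ a1.1)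
      rw [hw j hj, hw _ a2.1, a2.2, hvv _ a1.1, a1.2])
    have hk2 : k = 2 := by
      have := hk' 1 (by norm_num)
      rw [hw 1 (by norm_num), n1, hv0, n2, tri_one k hk hk1] at this
      exact this.symm
    subst hk2
    intro x hx
    have hpx := hlt x hx
    have h3 := hk' (gt pn (gt p x)) (pnn _ hpx).1
    rw [hw _ (pnn _ hpx).1, (pnn _ hpx).2] at h3
    have h4 : gt v (gt p x) = gt pn (gt (tri 2) (gt pn (gt p x))) := by
      rw [← h3, (pnn _ (hvlt _ hpx)).2]
    rw [hun _ hpx, e2 x hx] at h4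
    have h5 : ∀ y < 9, gt pn (gt (tri 2) (gt pn y)) = gt pu y := by decide +kernel
    rw [h4, h5 _ hpx]
  -- the digits
  have hcand : ∀ i < 9, gt p i = gt (cand (gt p 3) (gt p 4)) i := by
    have hf : ∀ i, candf (gt p 3) (gt p 4) i < 16 := by
      intro i
      unfold candf
      split
      all_goals first | exact gt_lt _ _ | norm_num
    intro i hi
    unfold cand
    rw [gt_mkp hf hi]
    have l1 := lin 2 (by norm_num) (by norm_num) 3 (by norm_num)
    have l2 := lin 3 (by norm_num) (by norm_num) 4 (by norm_num)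
    have l3 := lin 5 (by norm_num) (by norm_num) 4 (by norm_num)
    have l4 := lin 2 (by norm_num) (by norm_num) 4 (by norm_num)
    have k1 : gt (tri 2) 3 = 5 := by decide +kernel
    have k2 : gt (tri 3) 4 = 6 := by decide +kernel
    have k3 : gt (tri 5) 4 = 7 := by decide +kernel
    have k4 : gt (tri 2) 4 = 8 := by decide +kernel
    rw [k1, h2] at l1
    rw [k2] at l2
    rw [k3, l1] at l3
    rw [k4, h2] at l4
    interval_cases i
    · exact h0
    · exact h1
    · exact h2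
    · rfl
    · rfl
    · exact l1
    · exact l2
    · exact l3
    · exact l4
  have hc := chkS_all _ (hlt 3 (by norm_num)) _ (hlt 4 (by norm_num))
  unfold chkS at hc
  have b1 : allN (fun i => Nat.beq (gt (cand (gt p 3) (gt p 4)) (gt pu i))
      (gt pu (gt (cand (gt p 3) (gt p 4)) i))) 9 = true := by
    rw [allN_iff]
    intro i hi
    rw [← hcand _ (upu i hi).1, ← hcand i hi, hcomm i hi]
    exact Nat.beq_refl _
  have b2 : wp (cand (gt p 3) (gt p 4)) = true := by
    refine wp_of (fun i hi => ?_) (fun i hi j hj hij => ?_)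
    · rw [← hcand i hi]; exact hlt i hi
    · rw [← hcand i hi, ← hcand j hj] at hij
      exact wp_inj hp hi hj hij
  rw [b1, b2] at hc
  obtain ⟨s, hs, hs'⟩ := exists_of_allN (n := 3) (f := fun s => Nat.beq (cand (gt p 3) (gt p 4)) (sg s))
    (by simpa using hc)
  refine ⟨s, hs, fun i hi => ?_⟩
  rw [hcand i hi, Nat.eq_of_beq_eq_true hs']

/-- `C(z)` acts as a subgroup of `PΓL(2,8)`. -/
theorem hpg (L : Lab Q z b) (hu : Re z b pu) : HPG z b := by
  have hz := L.ctx.nine.zz
  intro c hc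
  obtain ⟨p, hp, hcp⟩ := L.act c hc
  have hR : Re z b p := ⟨hp, c, hc, hcp⟩
  have hlt : ∀ i < 9, gt p i < 9 := fun i hi => wp_lt hp hi
  -- move the image of `∞` back
  set k := gt p 0 with hk
  have hk9 : k < 9 := hlt 0 (by norm_num)
  obtain ⟨a1, a2, a3⟩ := q0_facts k hk9
  have hq0 : Re z b (q0 k) := by
    unfold q0
    cases Nat.beq k 0
    · rw [cond_false]; exact (re_pn L hu).mul hz (re_tri L hk9)
    · rw [cond_true]; exact Re.idp
  set p1 := cp (q0 k) p with hp1
  have hR1 : Re z b p1 := hq0.mul hz hR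
  have g1 : ∀ i < 9, gt p1 i = gt (q0 k) (gt p i) := fun i hi => gt_cp _ _ hi
  have p10 : gt p1 0 = 0 := by rw [g1 0 (by norm_num)]; exact a2
  have hlt1 : ∀ i < 9, gt p1 i < 9 := fun i hi => wp_lt hR1.1 hi
  -- move the image of `0` back
  set j := gt p1 1 with hj
  have hj9 : j < 9 := hlt1 1 (by norm_num)
  have hj1 : 1 ≤ j := by
    by_contra hcon
    have := wp_inj hR1.1 (by norm_num : (1 : ℕ) < 9) (by norm_num : (0 : ℕ) < 9) (by omega)
    omega
  obtain ⟨c1, c2⟩ := trj_facts j hj9 hj1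
  obtain ⟨-, tt⟩ := tri_tri j hj9 hj1
  set p2 := cp (tri j) p1 with hp2
  have hR2 : Re z b p2 := (re_tri L hj9).mul hz hR1
  have g2 : ∀ i < 9, gt p2 i = gt (tri j) (gt p1 i) := fun i hi => gt_cp _ _ hi
  have p20 : gt p2 0 = 0 := by rw [g2 0 (by norm_num), p10, c1]
  have p21 : gt p2 1 = 1 := by rw [g2 1 (by norm_num)]; exact c2
  have hlt2 : ∀ i < 9, gt p2 i < 9 := fun i hi => wp_lt hR2.1 hi
  -- move the image of `1` back
  obtain ⟨m, hm, hm7⟩ : ∃ m, gt p2 2 = 2 + m ∧ m < 7 := by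
    have h9 := hlt2 2 (by norm_num)
    have n0 : gt p2 2 ≠ 0 := fun h => by
      have := wp_inj hR2.1 (by norm_num : (2 : ℕ) < 9) (by norm_num : (0 : ℕ) < 9) (by rw [h, p20])
      omega
    have n1 : gt p2 2 ≠ 1 := fun h => by
      have := wp_inj hR2.1 (by norm_num : (2 : ℕ) < 9) (by norm_num : (1 : ℕ) < 9) (by rw [h, p21])
      omega
    exact ⟨gt p2 2 - 2, by omega, by omega⟩
  obtain ⟨d1, d2, d3, d4, d5⟩ := pow_facts m hm7
  have hRd : ∀ m, Re z b (ppow pd m) := by
    intro m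
    induction m with
    | zero => exact Re.idp
    | succ m ih => exact ih.mul hz (re_pd L hu)
  set p3 := cp (ppow pd m) p2 with hp3
  have hR3 : Re z b p3 := (hRd m).mul hz hR2
  have g3 : ∀ i < 9, gt p3 i = gt (ppow pd m) (gt p2 i) := fun i hi => gt_cp _ _ hi
  obtain ⟨s, hs, hs'⟩ := cand_of L hu hR3 (by rw [g3 0 (by norm_num), p20, d2])
    (by rw [g3 1 (by norm_num), p21, d3]) (by rw [g3 2 (by norm_num), hm, d4])
  -- conclusion
  refine ⟨_, mem_PG hk9 hj9 hm7 hs, hcp.congr fun i hi => ?_⟩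
  have hsl : gt (sg s) i < 9 := by rw [← hs' i hi]; exact wp_lt hR3.1 hi
  have l1 : gt (ppow pdi m) (gt (sg s) i) = gt p2 i := by
    rw [← hs' i hi, g3 i hi]
    exact d5 _ (hlt2 i hi)
  have l2 : gt (tri j) (gt p2 i) = gt p1 i := by
    rw [g2 i hi]
    exact tt _ (hlt1 i hi)
  have l3 : gt (q0i k) (gt p1 i) = gt p i := by
    rw [g1 i hi]
    exact a3 _ (hlt i hi)
  rw [gt_cp _ _ hi, gt_cp _ _ hi, l1, gt_cp _ _ (hlt2 i hi), l2, l3]

end

end Cfsg.Agent.TrialityTwo.StepM
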