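import Cfsg.Agent.TrialityTwo.StepT

/-!
# The relations of `t` (helper814)
-/

set_option autoImplicit false

namespace Cfsg.Agent.TrialityTwo.StepR

open Cfsg.Agent.LargeExtra.Model Cfsg.Agent.LargeExtra.Pres Cfsg.Agent.TrialityTwo.Nine
open Cfsg.Agent.TrialityTwo.Perm Cfsg.Agent.TrialityTwo.Lift Cfsg.Agent.TrialityTwo.RelCx
open Cfsg.Agent.TrialityTwo.StepD Cfsg.Agent.TrialityTwo.StepT Cfsg.Agent.TrialityTwo.PGam
open Cfsg.Agent.Co2Type.Quad Cfsg.Agent.LargeExtra.Base

/-- solutions of `x x^d x^(d³) = 1` in `Q` -/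
def chkF (x : ℕ) : Bool :=
  !(Nat.beq (mu (mu x (apk pdi x 8)) (apk (ppow pdi 3) x 8)) 0) || Nat.beq x 0 ||
    !(allN (fun k => !(Nat.beq x (apk (ppow pdi k) 348 8))) 7)

theorem chkF_all : allN chkF 512 = true := by decide +kernel

/-- solutions of `x x^(d²) x^(d³) = 1` in `Q` -/
def chkW (x : ℕ) : Bool :=
  !(Nat.beq (mu (mu x (apk (ppow pdi 2) x 8)) (apk (ppow pdi 3) x 8)) 0) || Nat.beq x 0 ||
    !(allN (fun k => !(Nat.beq x (apk (ppow pdi k) 347 8))) 7)

theorem chkW_all : allN chkW 512 = true := by decide +kernel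

section

variable {G : Type*} [Group G] {Q A : Subgroup G} {z : G} {a : ℕ → G} {d e n t a' : G}

/-- `t` swaps `Q` and `A`. -/
theorem swap (p : Pair Q z A a') (ht : t * t = 1) (htz : t * z * t = a') :
    (∀ x ∈ Q, t * x * t ∈ A) ∧ ∀ x ∈ A, t * x * t ∈ Q := by
  have hti : t⁻¹ = t := inv_eq_of_mul_eq_one_left ht
  obtain ⟨g0, hg1, -, hA, -⟩ := p.isConj
  have h1 : t * z * t⁻¹ = g0 * z * g0⁻¹ := by rw [hti, htz, hg1]
  have h2 := map_eq_of_conj p.lz h1
  rw [← hA] at h2
  constructor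
  · intro x hx
    rw [← h2]
    exact ⟨x, hx, by show t * x * t⁻¹ = _; rw [hti]⟩
  · intro x hx
    rw [← h2] at hx
    obtain ⟨y, hy, rfl⟩ := hx
    have : t * (MulAut.conj t).toMonoidHom y * t = y := by
      show t * (t * y * t⁻¹) * t = y
      calc t * (t * y * t⁻¹) * t = (t * t) * y := by group
        _ = y := by rw [ht, one_mul]
    rw [this]; exact hy

theorem conj_mul_t (ht : t * t = 1) (x y : G) : t * (x * y) * t = (t * x * t) * (t * y * t) := by
  calc t * (x * y) * t = t * x * 1 * y * t := by group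
    _ = t * x * (t * t) * y * t := by rw [ht]
    _ = _ := by group

/-- conjugation by `t` commutes with conjugation by powers of `d` -/
theorem conj_dt (htd : t * d = d * t) (k : ℕ) (x : G) :
    t * ((d ^ k)⁻¹ * x * d ^ k) * t = (d ^ k)⁻¹ * (t * x * t) * d ^ k := by
  have h1 : t * d ^ k = d ^ k * t := by
    induction k with
    | zero => simp
    | succ k ih => rw [pow_succ, ← mul_assoc, ih, mul_assoc, htd, ← mul_assoc]
  have h2 : t * (d ^ k)⁻¹ = (d ^ k)⁻¹ * t := by
    calc t * (d ^ k)⁻¹ = (d ^ k)⁻¹ * (d ^ k * t) * (d ^ k)⁻¹ := by group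
      _ = (d ^ k)⁻¹ * (t * d ^ k) * (d ^ k)⁻¹ := by rw [h1]
      _ = _ := by group
  calc t * ((d ^ k)⁻¹ * x * d ^ k) * t = (t * (d ^ k)⁻¹) * x * (d ^ k * t) := by group
    _ = _ := by rw [h2, ← h1]; group

theorem step_d [Finite G] (X : Ctx Q z a) (g : Gens z a d e n) {k : ℕ} {x : ℕ} (hx : x < 512) :
    (d ^ k)⁻¹ * ph z a x * d ^ k = ph z a (apk (ppow pdi k) x 8) := by
  have h1 : Sl a ((d ^ k)⁻¹) (ppow pdi k) := by rw [← inv_pow]; exact Sl.pow (Sl.d_inv g.d_sl) vpdi k
  have hv : ∀ i < 9, gt (ppow pdi k) i < 9 := by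
    induction k with
    | zero =>
      intro i hi
      show gt idp i < 9
      rw [gt_idp hi]; exact hi
    | succ k ih =>
      intro i hi
      show gt (cp (ppow pdi k) pdi) i < 9
      rw [gt_cp _ _ hi]
      refine ih ?_ _ (vp_lt vpdi hi)
      rw [← inv_pow]; exact Sl.pow (Sl.d_inv g.d_sl) vpdi k
  have := apk_spec X.nine (comm_inv (comm_pow g.dz k)) (p := ppow pdi k) (fun i hi => hv i (by omega))
    (fun i hi => h1 i (by omega)) x hx
  rwa [inv_inv] at this

/-- The action of `t` on the translation `e`, up to a power of `d`. -/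
theorem te_pow [Finite G] (X : Ctx Q z a) (g : Gens z a d e n) (p : Pair Q z A a') (heA : e ∈ A)
    (ht : t * t = 1) (htd : t * d = d * t) (htz : t * z * t = a') :
    ∃ k < 7, t * e * t = ph z a (apk (ppow pdi k) 348 8) := by
  have nn := X.nine
  have hf := (swap p ht htz).2 e heA
  obtain ⟨x, hx, hxe⟩ := exists_ph nn X.large.z_mem X.mem X.card hf
  have hx1 : apk pdi x 8 < 512 := apk8_lt vpdi hx
  have hx3 : apk (ppow pdi 3) x 8 < 512 := apk8_lt (by decide +kernel) hx
  have h1 : ph z a (mu (mu x (apk pdi x 8)) (apk (ppow pdi 3) x 8)) = 1 := by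
    have hp1 : (d ^ 1)⁻¹ * ph z a x * d ^ 1 = ph z a (apk (ppow pdi 1) x 8) := step_d X g hx
    have e1 : ppow pdi 1 = pdi := by decide +kernel
    rw [pow_one, e1] at hp1
    have h3 := step_d X g (k := 3) hx
    rw [ph_mul nn, ph_mul nn, ← hp1, ← h3, hxe]
    have c1 := conj_dt (x := e) htd 1
    rw [pow_one] at c1
    rw [← c1, ← conj_dt htd 3, ← conj_mul_t ht, ← conj_mul_t ht, g.rel.e013, mul_one, ht]
  have h2 : mu (mu x (apk pdi x 8)) (apk (ppow pdi 3) x 8) = 0 :=
    ph_inj nn (mu_lt (mu_lt hx hx1) hx3) (by norm_num) (by rw [h1, ph_zero])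
  have h3 := allN_iff.1 chkF_all x hx
  unfold chkF at h3
  rw [h2] at h3
  have hx0 : Nat.beq x 0 = false := by
    cases h : Nat.beq x 0
    · rfl
    · exfalso
      have hx' : x = 0 := Nat.eq_of_beq_eq_true h
      rw [hx', ph_zero] at hxe
      have he1 : e = 1 := by
        calc e = (t * t) * e * (t * t) := by rw [ht]; group
          _ = t * (t * e * t) * t := by group
          _ = 1 := by rw [← hxe, mul_one, ht]
      have h4 := g.e_sl 1 (by norm_num)
      have h5 : gt pe 1 = 2 := by decide +kernel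
      rw [he1, h5] at h4
      have h6 : (1 : G) * a 1 * 1⁻¹ = a 1 := by group
      rw [h6] at h4
      exact (ne_point nn (i := 1) (j := 2) (by norm_num) (by norm_num) (by norm_num)).1 h4
  rw [hx0] at h3
  obtain ⟨k, hk, hk'⟩ := exists_of_allN (n := 7) (f := fun k => Nat.beq x (apk (ppow pdi k) 348 8))
    (by simpa using h3)
  refine ⟨k, hk, ?_⟩
  rw [← hxe]
  have : x = apk (ppow pdi k) 348 8 := Nat.eq_of_beq_eq_true hk'
  rw [← this]

/-- `t` centralises `[D, d]`. -/
theorem tw [Finite G] (X : Ctx Q z a) (g : Gens z a d e n) (p : Pair Q z A a')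
    (hD : ph z a 347 ∈ A) (ht : t * t = 1) (htd : t * d = d * t) (htz : t * z * t = a') :
    t * ph z a 347 * t = ph z a 347 := by
  have nn := X.nine
  have hf := (swap p ht htz).2 _ hD
  obtain ⟨x, hx, hxe⟩ := exists_ph nn X.large.z_mem X.mem X.card hf
  have hx2 : apk (ppow pdi 2) x 8 < 512 := apk8_lt (by decide +kernel) hx
  have hx3 : apk (ppow pdi 3) x 8 < 512 := apk8_lt (by decide +kernel) hx
  have h347 : ph z a 347 * ((d ^ 2)⁻¹ * ph z a 347 * d ^ 2) * ((d ^ 3)⁻¹ * ph z a 347 * d ^ 3) = 1 := by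
    rw [step_d X g (by norm_num), step_d X g (by norm_num), ← ph_mul nn, ← ph_mul nn, ← ph_zero (z := z) (a := a)]
    congr 1
  have h1 : ph z a (mu (mu x (apk (ppow pdi 2) x 8)) (apk (ppow pdi 3) x 8)) = 1 := by
    rw [ph_mul nn, ph_mul nn, ← step_d X g (k := 2) hx, ← step_d X g (k := 3) hx, hxe,
      ← conj_dt htd 2, ← conj_dt htd 3, ← conj_mul_t ht, ← conj_mul_t ht, h347, mul_one, ht]
  have h2 : mu (mu x (apk (ppow pdi 2) x 8)) (apk (ppow pdi 3) x 8) = 0 :=
    ph_inj nn (mu_lt (mu_lt hx hx2) hx3) (by norm_num) (by rw [h1, ph_zero])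
  have h3 := allN_iff.1 chkW_all x hx
  unfold chkW at h3
  rw [h2] at h3
  have hx0 : Nat.beq x 0 = false := by
    cases h : Nat.beq x 0
    · rfl
    · exfalso
      have hx' : x = 0 := Nat.eq_of_beq_eq_true h
      rw [hx', ph_zero] at hxe
      have he1 : ph z a 347 = 1 := by
        calc ph z a 347 = (t * t) * ph z a 347 * (t * t) := by rw [ht]; group
          _ = t * (t * ph z a 347 * t) * t := by group
          _ = 1 := by rw [← hxe, mul_one, ht]
      rw [← ph_zero (z := z) (a := a)] at he1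
      have := ph_inj nn (by norm_num) (by norm_num) he1
      omega
  rw [hx0] at h3
  obtain ⟨k, hk, hk'⟩ := exists_of_allN (n := 7) (f := fun k => Nat.beq x (apk (ppow pdi k) 347 8))
    (by simpa using h3)
  have hxk : x = apk (ppow pdi k) 347 8 := Nat.eq_of_beq_eq_true hk'
  -- `t² = 1`
  have h5 : ph z a 347 = ph z a (apk (ppow pdi k) (apk (ppow pdi k) 347 8) 8) := by
    have hlt : apk (ppow pdi k) 347 8 < 512 := by rw [← hxk]; exact hx
    rw [← step_d X g hlt, ← hxk, hxe, ← conj_dt htd k, step_d X g (by norm_num), ← hxk, hxe]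
    calc ph z a 347 = (t * t) * ph z a 347 * (t * t) := by rw [ht]; group
      _ = _ := by group
  have h6 : ∀ k < 7, 347 = apk (ppow pdi k) (apk (ppow pdi k) 347 8) 8 → k = 0 := by decide +kernel
  have h7 : ∀ k < 7, apk (ppow pdi k) (apk (ppow pdi k) 347 8) 8 < 512 := by decide +kernel
  have hk0 := h6 k hk (ph_inj nn (by norm_num) (h7 k hk) h5)
  subst hk0
  rw [← hxe, hxk]
  congr 1

/-- All relations of `t`; in particular `a' = a 0`. -/
theorem relT [Finite G] (X : Ctx Q z a) (g : Gens z a d e n) (p : Pair Q z A a') (heA : e ∈ A)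
    (hD : ∀ k < 512, inD k = true → ph z a k ∈ A)
    (ht : t * t = 1) (htd : t * d = d * t) (htz : t * z * t = a') (hbt : (a 1 * t) ^ 3 = 1) :
    a' = a 0 ∧ RelT d e n (a 0) t := by
  have nn := X.nine
  have hti : t⁻¹ = t := inv_eq_of_mul_eq_one_left ht
  have hb1 : a 1 * a 1 = 1 := nn.sq 1 (by norm_num)
  have hbi : (a 1)⁻¹ = a 1 := inv_eq_of_mul_eq_one_left hb1
  obtain ⟨k, hk, hte⟩ := te_pow X g p heA ht htd htz
  have hklt : ∀ k < 7, apk (ppow pdi k) 348 8 < 512 := by decide +kernel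
  -- braid
  have hbraid : t * a 1 * t = a 1 * t * a 1 := by
    have h1 : a 1 * t * (a 1 * t) * (a 1 * t) = 1 := by rw [← hbt, pow_succ, pow_two]
    have h2 : a 1 * t * a 1 * (t * a 1 * t) = 1 := by rw [← h1]; group
    have h3 : (a 1 * t * a 1)⁻¹ = a 1 * t * a 1 := by
      rw [mul_inv_rev, mul_inv_rev, hbi, hti, mul_assoc]
    rw [← h3]
    exact (inv_eq_of_mul_eq_one_right h2).symm
  -- `b` centralises `f`
  have hbf : a 1 * (t * e * t) * a 1 = t * e * t := by
    rw [hte]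
    have h1 : ∀ k < 7, mu (mu (ptc 1) (apk (ppow pdi k) 348 8)) (ptc 1) = apk (ppow pdi k) 348 8 := by
      decide +kernel
    rw [← ph_ptc nn (i := 1) (by norm_num), ← ph_mul nn, ← ph_mul nn, h1 k hk]
  -- `e` commutes with `t b t`
  have hcomm : (t * a 1 * t) * e * (t * a 1 * t) = e := by
    calc (t * a 1 * t) * e * (t * a 1 * t) = t * (a 1 * (t * e * t) * a 1) * t := by group
      _ = t * (t * e * t) * t := by rw [hbf]
      _ = (t * t) * e * (t * t) := by group
      _ = e := by rw [ht]; group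
  -- `t` commutes with `b e b`
  have hcomm2 : t * (a 1 * e * a 1) * t = a 1 * e * a 1 := by
    have h1 : (a 1 * t * a 1) * e * (a 1 * t * a 1) = e := by rw [← hbraid]; exact hcomm
    calc t * (a 1 * e * a 1) * t = a 1 * ((a 1)⁻¹ * (t * (a 1 * e * a 1) * t) * (a 1)⁻¹) * a 1 := by group
      _ = a 1 * ((a 1 * t * a 1) * e * (a 1 * t * a 1)) * a 1 := by rw [hbi]; group
      _ = _ := by rw [h1]
  have hbeb : a 1 * e * a 1 = ph z a 6 * e := by
    have h1 : ph z a 6 = a 1 * a 2 := by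
      have : (6 : ℕ) = mu (ptc 1) (ptc 2) := by decide +kernel
      rw [this, ph_mul nn, ph_ptc nn (by norm_num), ph_ptc nn (by norm_num)]
    rw [h1, ← ebe g]
    have e2 := g.rel.e2
    calc a 1 * e * a 1 = a 1 * (e * a 1 * (e * e)) := by rw [e2]; group
      _ = _ := by group
  -- `δ = b c₀ f₀⁻¹`
  have h6 : ph z a 6 = ph z a 346 * ph z a 348 := by
    rw [← ph_mul nn]; congr 1
  have hδA : ph z a 346 ∈ A := hD 346 (by norm_num) (by decide +kernel)
  have hδQ : t * ph z a 346 * t ∈ Q := (swap p ht htz).2 _ hδA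
  -- `f₀ = d^k f d^{-k}`
  have hf0 : ph z a 348 = d ^ k * (t * e * t) * (d ^ k)⁻¹ := by
    rw [hte, ← step_d X g (by norm_num)]; group
  have htf0 : t * ph z a 348 * t = d ^ k * e * (d ^ k)⁻¹ := by
    have h1 := conj_dt (t := t) htd k (t * ph z a 348 * t)
    have h2 : (d ^ k)⁻¹ * ph z a 348 * d ^ k = t * e * t := by rw [hf0]; group
    have h3 : t * (t * ph z a 348 * t) * t = ph z a 348 := by
      calc t * (t * ph z a 348 * t) * t = (t * t) * ph z a 348 * (t * t) := by group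
        _ = _ := by rw [ht]; group
    rw [h3, h2] at h1
    have h4 : (d ^ k)⁻¹ * (t * ph z a 348 * t) * d ^ k = e := by
      calc (d ^ k)⁻¹ * (t * ph z a 348 * t) * d ^ k
          = (t * t) * ((d ^ k)⁻¹ * (t * ph z a 348 * t) * d ^ k) * (t * t) := by rw [ht]; group
        _ = t * (t * ((d ^ k)⁻¹ * (t * ph z a 348 * t) * d ^ k) * t) * t := by group
        _ = t * (t * e * t) * t := by rw [h1]
        _ = (t * t) * e * (t * t) := by group
        _ = e := by rw [ht]; group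
    rw [← h4]; group
  -- the key equation
  have hkey : (t * ph z a 346 * t) * (d ^ k * e * (d ^ k)⁻¹) * (t * e * t) = ph z a 6 * e := by
    rw [hbeb] at hcomm2
    rw [conj_mul_t ht, h6, conj_mul_t ht, htf0, ← h6] at hcomm2
    exact hcomm2
  have hfQ : t * e * t ∈ Q := (swap p ht htz).2 e heA
  have hk0 : k = 0 := by
    have h1 : d ^ k * e * (d ^ k)⁻¹ = (t * ph z a 346 * t)⁻¹ * ph z a 6 * (e * (t * e * t)⁻¹ * e⁻¹) * e := by
      calc d ^ k * e * (d ^ k)⁻¹ = (t * ph z a 346 * t)⁻¹ * ((t * ph z a 346 * t) * (d ^ k * e * (d ^ k)⁻¹) *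
            (t * e * t)) * (t * e * t)⁻¹ := by group
        _ = (t * ph z a 346 * t)⁻¹ * (ph z a 6 * e) * (t * e * t)⁻¹ := by rw [hkey]
        _ = _ := by group
    have h2 : (t * ph z a 346 * t)⁻¹ * ph z a 6 * (e * (t * e * t)⁻¹ * e⁻¹) ∈ Q :=
      mul_mem (mul_mem (inv_mem hδQ) (ph_mem X.large.z_mem X.mem _))
        (X.large.conj_mem e g.ez _ (inv_mem hfQ))
    have hQact : ∀ x ∈ Q, Act z a x idp := by
      intro x hx i hi
      rw [gt_idp hi]
      exact conj_Q X hx (X.mem i hi)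
    have h3 : Act z a (d ^ k * e * (d ^ k)⁻¹) (cp idp pe) := by
      rw [h1]
      exact (hQact _ h2).mul (X.large.comm_z _ h2) nn.zz g.e_sl.act vpe
    have hdki : Act z a (d ^ k)⁻¹ (ppow pdi k) := by
      rw [← inv_pow]; exact (Sl.pow (Sl.d_inv g.d_sl) vpdi k).act
    have hvk : ∀ k < 7, vp (ppow pdi k) = true ∧ (∀ i < 9, gt (cp (cp (ppow pd k) pe) (ppow pdi k)) i < 9) := by
      decide +kernel
    have h4 : Act z a (d ^ k * e * (d ^ k)⁻¹) (cp (cp (ppow pd k) pe) (ppow pdi k)) :=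
      (((Sl.pow g.d_sl vpd k).act).mul (comm_pow g.dz k) nn.zz g.e_sl.act vpe).mul
        (comm_mul (comm_pow g.dz k) g.ez) nn.zz hdki (hvk k hk).1
    have h5 := Act.unique nn h3 h4 (by decide +kernel) (hvk k hk).2
    have h7 : ∀ k < 7, (∀ i < 9, gt (cp idp pe) i = gt (cp (cp (ppow pd k) pe) (ppow pdi k)) i) → k = 0 := by
      decide +kernel
    exact h7 k hk h5
  subst hk0
  have hte' : t * e * t = ph z a 348 := by
    rw [hte]; congr 1
  -- `t a₀ t = z`
  have hta0 : t * a 0 * t = z := by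
    have h1 : t * ph z a 346 * t = ph z a 91 := by
      have h2 : (t * ph z a 346 * t) * e * ph z a 348 = ph z a 6 * e := by
        rw [← hkey, hte']; simp
      have h3 : t * ph z a 346 * t = ph z a 6 * (e * (ph z a 348)⁻¹ * e⁻¹) := by
        calc t * ph z a 346 * t = ((t * ph z a 346 * t) * e * ph z a 348) * (ph z a 348)⁻¹ * e⁻¹ := by group
          _ = _ := by rw [h2]; group
      have h4 : (ph z a 348)⁻¹ = ph z a 348 := inv_code nn (by decide +kernel)
      rw [h3, h4, Sl.ap nn g.ez g.e_sl vpe (by norm_num), ← ph_mul nn]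
      congr 1
    have h2 : ph z a 346 = ph z a 347 * a 0 := by
      rw [← ph_one nn, ← ph_mul nn]; congr 1
    have h3 := tw X g p (hD 347 (by norm_num) (by decide +kernel)) ht htd htz
    rw [h2, conj_mul_t ht, h3] at h1
    have h4 : t * a 0 * t = (ph z a 347)⁻¹ * ph z a 91 := by rw [← h1]; group
    have h5 : (ph z a 347)⁻¹ = ph z a 347 := inv_code nn (by decide +kernel)
    have e3 : mu 347 91 = 256 := by decide +kernel
    rw [h4, h5, ← ph_mul nn, e3, ph_z]
  have ha' : a' = a 0 := by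
    rw [← htz, ← hta0]
    calc t * (t * a 0 * t) * t = (t * t) * a 0 * (t * t) := by group
      _ = a 0 := by rw [ht]; group
  have hcc : ∀ i < 7, cc d e n (a 0) i = a (2 + i) := fun i hi => cc_eq g hi
  refine ⟨ha', { relC nn g with t2 := ht, td := htd, tz := ?_, bt := ?_, te := ?_, tc := ?_ }⟩
  · rw [zc_eq nn g, htz, ha']
  · rw [bb_eq g]; exact hbt
  · rw [hte', zc_eq nn g, hcc 0 (by norm_num), hcc 1 (by norm_num), hcc 2 (by norm_num), hcc 4 (by norm_num)]
    have e1 : (348 : ℕ) = mu (mu (mu (mu (ptc (2 + 0)) (ptc (2 + 1))) (ptc (2 + 2))) (ptc (2 + 4))) 256 := by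
      decide +kernel
    rw [e1, ph_mul nn, ph_mul nn, ph_mul nn, ph_mul nn, ph_z, ph_ptc nn (by norm_num), ph_ptc nn (by norm_num),
      ph_ptc nn (by norm_num), ph_ptc nn (by norm_num)]
  · rw [hcc 0 (by norm_num), hcc 1 (by norm_num), hcc 2 (by norm_num), hcc 5 (by norm_num)]
    have e1 : a (2 + 0) * a (2 + 1) * a (2 + 2) * a (2 + 5) =
        ph z a (mu (mu (mu (ptc (2 + 0)) (ptc (2 + 1))) (ptc (2 + 2))) (ptc (2 + 5))) := by
      rw [ph_mul nn, ph_mul nn, ph_mul nn, ph_ptc nn (by norm_num), ph_ptc nn (by norm_num),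
        ph_ptc nn (by norm_num), ph_ptc nn (by norm_num)]
    have e2 : mu (mu (mu (ptc (2 + 0)) (ptc (2 + 1))) (ptc (2 + 2))) (ptc (2 + 5)) =
        apk (ppow pdi 2) 347 8 := by decide +kernel
    have h3 := tw X g p (hD 347 (by norm_num) (by decide +kernel)) ht htd htz
    rw [e1, e2, ← step_d X g (by norm_num)]
    have h4 := conj_dt (t := t) htd 2 (ph z a 347)
    rw [h3] at h4
    calc t * ((d ^ 2)⁻¹ * ph z a 347 * d ^ 2) = (t * ((d ^ 2)⁻¹ * ph z a 347 * d ^ 2) * t) * t⁻¹ := by group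
      _ = _ := by rw [h4, hti]

end

end Cfsg.Agent.TrialityTwo.StepR
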