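import Cfsg.Agent.TrialityTwo.StepD

/-!
# The element `t` (helper814)
-/

set_option autoImplicit false

namespace Cfsg.Agent.TrialityTwo.StepT

open Cfsg.Agent.LargeExtra.Model Cfsg.Agent.LargeExtra.Pres Cfsg.Agent.TrialityTwo.Nine
open Cfsg.Agent.TrialityTwo.Perm Cfsg.Agent.TrialityTwo.Lift Cfsg.Agent.TrialityTwo.RelCx
open Cfsg.Agent.TrialityTwo.StepD Cfsg.Agent.TrialityTwo.PGam
open Cfsg.Agent.Co2Type.Quad Cfsg.Agent.LargeExtra.Base

theorem mkp_congr {f g : ℕ → ℕ} {n : ℕ} (h : ∀ i < n, f i = g i) : mkp f n = mkp g n := by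
  induction n with
  | zero => rfl
  | succ n ih => rw [mkp_succ, mkp_succ, ih (fun i hi => h i (by omega)), h n (by omega)]

theorem cp_eq_of {p q r : ℕ} (h : ∀ i < 9, gt p (gt q i) = gt r i) : cp p q = mkp (gt r) 9 :=
  mkp_congr h

theorem idp_eq : mkp (gt idp) 9 = idp := by decide +kernel

/-! ### checks on `PΓL(2,8)` -/

/-- involutions fixing `∞` are translations -/
def chkP1 (p : ℕ) : Bool :=
  !(Nat.beq (gt p 0) 0) || !(Nat.beq (cp p p) idp) || Nat.beq p idp ||
    !(allN (fun k => !(Nat.beq p (cp (cp (ppow pdi k) pe) (ppow pd k)))) 7)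

theorem chkP1_all : PG.all chkP1 = true := by decide +kernel

/-- elements fixing `∞` commuting with `d` are powers of `d` -/
def chkP7 (p : ℕ) : Bool :=
  !(Nat.beq (gt p 0) 0) || !(Nat.beq (cp p pd) (cp pd p)) ||
    !(allN (fun k => !(Nat.beq p (ppow pd k))) 7)

theorem chkP7_all : PG.all chkP7 = true := by decide +kernel

theorem exists_of_allN {f : ℕ → Bool} {n : ℕ} (h : (!(allN (fun k => !(f k)) n)) = true) :
    ∃ k < n, f k = true := by
  by_contra hcon
  push Not at hcon
  have : allN (fun k => !(f k)) n = true := allN_iff.2 fun k hk => by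
    have := hcon k hk
    simp only [Bool.not_eq_true] at this
    simp [this]
  rw [this] at h
  exact absurd h (by decide)

section

variable {G : Type*} [Group G] {Q A : Subgroup G} {z : G} {a : ℕ → G} {d e n : G}

/-- `C(z)` acts on the nine points as a subgroup of `PΓL(2,8)` -/
def HPG (z : G) (a : ℕ → G) : Prop := ∀ c, c * z = z * c → ∃ p, PG.mem p = true ∧ Act z a c p

theorem gt_zero_of_comm (nn : Nine z a) {c : G} {p : ℕ} (h : Act z a c p) (hp : vp p = true)
    (h0 : c * a 0 = a 0 * c) : gt p 0 = 0 := by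
  by_contra hne
  have h1 := h 0 (by norm_num)
  have h2 : c * a 0 * c⁻¹ = a 0 := by rw [h0]; group
  rw [h2] at h1
  have h3 := ne_point nn (i := 0) (by norm_num) (vp_lt hp (by norm_num)) (fun h => hne h.symm)
  rcases h1 with h1 | h1
  · exact h3.1 h1
  · exact h3.2 h1

/-- an element of `Q_{a_∞}` inducing the standard translation -/
theorem exists_y [Finite G] (X : Ctx Q z a) (g : Gens z a d e n) (hPG : HPG z a)
    (p : Pair Q z A (a 0)) : ∃ y ∈ A, y * z = z * y ∧ Act z a y pe := by
  classical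
  have nn := X.nine
  -- an element outside `Q`
  obtain ⟨y, hyA, hyz, hyQ⟩ : ∃ y ∈ A, y * z = z * y ∧ y ∉ Q := by
    by_contra hcon
    push Not at hcon
    have key : ∀ x ∈ A, x * z = z * x → x = 1 ∨ x = a 0 ∨ x = z ∨ x = z * a 0 := by
      intro x hx hxz
      have := Cfsg.Agent.LargeExtra.TwoCentral.eq_of_cent p.la p.z_mem hx (fun r hr hrz =>
        p.comm_D (hcon r hr hrz) hr (hcon x hx hxz) hx)
      exact this
    have hc := Cfsg.Agent.LargeExtra.Local.card_centralizer p.la p.z_mem p.lz.z_ne p.ne.symm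
    rw [p.card_eq, X.card] at hc
    have hle : Nat.card ↥(Subgroup.centralizer ({z} : Set G) ⊓ A) ≤ 4 := by
      have hsub : ((Subgroup.centralizer ({z} : Set G) ⊓ A : Subgroup G) : Set G) ⊆
          (({1, a 0, z, z * a 0} : Finset G) : Set G) := by
        rintro x ⟨hx1, hx2⟩
        have := key x hx2 (Subgroup.mem_centralizer_singleton_iff.1 hx1)
        simp only [Finset.coe_insert, Finset.coe_singleton, Set.mem_insert_iff, Set.mem_singleton_iff]
        tauto
      have h1 := Set.ncard_le_ncard hsub (Finset.finite_toSet _)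
      rw [Set.ncard_coe_finset] at h1
      have h2 : ({1, a 0, z, z * a 0} : Finset G).card ≤ 4 := Finset.card_le_four
      have h3 : Nat.card ↥(Subgroup.centralizer ({z} : Set G) ⊓ A) =
          ((Subgroup.centralizer ({z} : Set G) ⊓ A : Subgroup G) : Set G).ncard := rfl
      omega
    omega
  obtain ⟨q, hq, hact⟩ := hPG y hyz
  have hvq := Tr.all_mem pg_vp hq
  have hy0 : y * a 0 = a 0 * y := p.la.comm_z y hyA
  have hg0 := gt_zero_of_comm nn hact hvq hy0
  have hqi : Nat.beq q idp = false := by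
    cases h : Nat.beq q idp
    · rfl
    · exfalso
      apply hyQ
      have : q = idp := Nat.eq_of_beq_eq_true h
      rw [this] at hact
      exact mem_Q_of_act X hyz hact
  have hsq : cp q q = idp := by
    rw [← idp_eq]
    apply cp_eq_of
    have h1 : Act z a (y * y) (cp q q) := hact.mul hyz nn.zz hact hvq
    have h2 : Act z a (y * y) idp := by
      rcases p.la.sq y hyA with h3 | h3
      · rw [h3]; exact Act.one
      · rw [h3]
        intro i hi
        rw [gt_idp hi]
        exact conj_Q X (X.mem 0 (by norm_num)) (X.mem i hi)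
    intro i hi
    have h3 := Act.unique nn h1 h2 (fun i hi => by
      rw [gt_cp _ _ hi]; exact vp_lt hvq (vp_lt hvq hi)) (fun i hi => by rw [gt_idp hi]; exact hi) i hi
    rw [gt_cp _ _ hi] at h3
    exact h3
  have hc := Tr.all_mem chkP1_all hq
  unfold chkP1 at hc
  rw [hg0, hsq, hqi] at hc
  have e1 : Nat.beq idp idp = true := Nat.beq_refl _
  rw [e1] at hc
  obtain ⟨k, hk, hk'⟩ := exists_of_allN (n := 7) (f := fun k => Nat.beq q (cp (cp (ppow pdi k) pe) (ppow pd k)))
    (by simpa using hc)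
  have hqk : q = cp (cp (ppow pdi k) pe) (ppow pd k) := Nat.eq_of_beq_eq_true hk'
  have hd0 : d * a 0 = a 0 * d := (comm_of_fix g.d_sl (by norm_num) (by decide +kernel)).symm
  refine ⟨d ^ k * y * (d ^ k)⁻¹, p.la.conj_mem _ (comm_pow hd0 k) y hyA,
    comm_mul (comm_mul (comm_pow g.dz k) hyz) (comm_inv (comm_pow g.dz k)), ?_⟩
  have hdk : Act z a (d ^ k) (ppow pd k) := (Sl.pow g.d_sl vpd k).act
  have hdki : Act z a (d ^ k)⁻¹ (ppow pdi k) := by
    rw [← inv_pow]; exact (Sl.pow (Sl.d_inv g.d_sl) vpdi k).act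
  have hvk : ∀ k < 7, vp (ppow pdi k) = true ∧
      (∀ i < 9, gt (cp (cp (ppow pd k) (cp (cp (ppow pdi k) pe) (ppow pd k))) (ppow pdi k)) i = gt pe i) := by
    decide +kernel
  rw [hqk] at hact hvq
  exact ((hdk.mul (comm_pow g.dz k) nn.zz hact hvq).mul (comm_mul (comm_pow g.dz k) hyz) nn.zz hdki
    (hvk k hk).1).congr (hvk k hk).2

/-! ### Sylow 7-subgroups -/

theorem conj_zpowers {K : Type*} [Group K] [Finite K] {x y : K} (hx : orderOf x = 7) (hy : orderOf y = 7)
    (h49 : ¬ 49 ∣ Nat.card K) : ∃ k : K, (∃ i : ℕ, k * y * k⁻¹ = x ^ i) ∧ ∃ j : ℕ, x = (k * y * k⁻¹) ^ j := by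
  have : Fact (Nat.Prime 7) := ⟨by norm_num⟩
  have hfac : ∀ w : K, orderOf w = 7 → Nat.card (Subgroup.zpowers w) = 7 ^ (Nat.card K).factorization 7 := by
    intro w hw
    rw [Nat.card_zpowers, hw]
    have h1 : 7 ∣ Nat.card K := hw ▸ orderOf_dvd_natCard w
    have h2 : (Nat.card K).factorization 7 = 1 := by
      have hne : Nat.card K ≠ 0 := Nat.card_pos.ne'
      apply le_antisymm
      · by_contra hcon
        push Not at hcon
        exact h49 (by
          have := (Nat.Prime.pow_dvd_iff_le_factorization (by norm_num : Nat.Prime 7) hne).2 hcon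
          simpa using this)
      · exact (Nat.Prime.dvd_iff_one_le_factorization (by norm_num : Nat.Prime 7) hne).1 h1
    rw [h2, pow_one]
  let P1 : Sylow 7 K := Sylow.ofCard (Subgroup.zpowers x) (hfac x hx)
  let P2 : Sylow 7 K := Sylow.ofCard (Subgroup.zpowers y) (hfac y hy)
  obtain ⟨k, hk⟩ := MulAction.exists_smul_eq K P2 P1
  have hk' : (Subgroup.zpowers y).map (MulAut.conj k).toMonoidHom = Subgroup.zpowers x := by
    have := congrArg (fun P : Sylow 7 K => (P : Subgroup K)) hk
    exact this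
  have hmap : (Subgroup.zpowers y).map (MulAut.conj k).toMonoidHom = Subgroup.zpowers (k * y * k⁻¹) := by
    rw [MonoidHom.map_zpowers]; rfl
  rw [hmap] at hk'
  refine ⟨k, ?_, ?_⟩
  · have h1 : k * y * k⁻¹ ∈ Subgroup.zpowers x := by rw [← hk']; exact Subgroup.mem_zpowers _
    obtain ⟨i, hi⟩ := (mem_powers_iff_mem_zpowers.2 h1)
    exact ⟨i, hi.symm⟩
  · have h1 : x ∈ Subgroup.zpowers (k * y * k⁻¹) := by rw [hk']; exact Subgroup.mem_zpowers _
    obtain ⟨i, hi⟩ := (mem_powers_iff_mem_zpowers.2 h1)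
    exact ⟨i, hi.symm⟩

/-! ### the centraliser of `d` and `V` -/

/-- codes commuting with `d` and `a 0` -/
def chkV (k : ℕ) : Bool :=
  !(Nat.beq (apk pd k 8) k) || !(Nat.beq (mu k 1) (mu 1 k)) ||
    (Nat.beq k 0 || Nat.beq k 1 || Nat.beq k 256 || Nat.beq k 257)

theorem chkV_all : allN chkV 512 = true := by decide +kernel

theorem cent_d [Finite G] (X : Ctx Q z a) (g : Gens z a d e n) (hPG : HPG z a) {c : G}
    (hcz : c * z = z * c) (hc0 : c * a 0 = a 0 * c) (hcd : c * d = d * c) :
    ∃ v i, c = v * d ^ i ∧ (v = 1 ∨ v = a 0 ∨ v = z ∨ v = z * a 0) := by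
  have nn := X.nine
  obtain ⟨q, hq, hact⟩ := hPG c hcz
  have hvq := Tr.all_mem pg_vp hq
  have hg0 := gt_zero_of_comm nn hact hvq hc0
  have hqd : cp q pd = cp pd q := by
    have h1 : Act z a (c * d) (cp q pd) := hact.mul hcz nn.zz g.d_sl.act vpd
    have h2 : Act z a (c * d) (cp pd q) := by rw [hcd]; exact g.d_sl.act.mul g.dz nn.zz hact hvq
    have h3 := Act.unique nn h1 h2 (fun i hi => by
      rw [gt_cp _ _ hi]; exact vp_lt hvq (vp_lt vpd hi)) (fun i hi => by
      rw [gt_cp _ _ hi]; exact vp_lt vpd (vp_lt hvq hi))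
    exact mkp_congr fun i hi => by
      have := h3 i hi
      rwa [gt_cp _ _ hi, gt_cp _ _ hi] at this
  have hc := Tr.all_mem chkP7_all hq
  unfold chkP7 at hc
  rw [hg0, hqd, Nat.beq_refl] at hc
  obtain ⟨i, hi, hi'⟩ := exists_of_allN (n := 7) (f := fun k => Nat.beq q (ppow pd k)) (by simpa using hc)
  have hqi : q = ppow pd i := Nat.eq_of_beq_eq_true hi'
  rw [hqi] at hact
  have hvi : ∀ k < 7, vp (ppow pd k) = true ∧ vp (ppow pdi k) = true ∧
      ∀ j < 9, gt (ppow pd k) (gt (ppow pdi k) j) = j := by decide +kernel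
  obtain ⟨k, hk, hk'⟩ := exists_code_mul X hcz (comm_pow g.dz i) hact (Sl.pow g.d_sl vpd i).act
    (hvi i hi).1 (hvi i hi).2.1 (hvi i hi).2.2
  have hd0 : d * a 0 = a 0 * d := (comm_of_fix g.d_sl (by norm_num) (by decide +kernel)).symm
  have hv : ph z a k = c * (d ^ i)⁻¹ := by rw [hk']; group
  have hv0 : ph z a k * a 0 = a 0 * ph z a k := by
    rw [hv]; exact comm_mul hc0 (comm_inv (comm_pow hd0 i))
  have hvd : ph z a k * d = d * ph z a k := by
    rw [hv]; exact comm_mul hcd (comm_inv (comm_pow rfl i))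
  have h1 : apk pd k 8 = k := by
    apply ph_inj nn (apk8_lt vpd hk) hk
    rw [← Sl.ap nn g.dz g.d_sl vpd hk, ← hvd]; group
  have h2 : mu k 1 = mu 1 k := by
    rw [← ph_comm_iff nn hk (by norm_num), ph_one nn]; exact hv0
  have h3 := allN_iff.1 chkV_all k hk
  unfold chkV at h3
  rw [h1, h2, Nat.beq_refl, Nat.beq_refl] at h3
  simp only [Bool.not_true, Bool.false_or, Bool.or_eq_true] at h3
  refine ⟨ph z a k, i, hk', ?_⟩
  rcases h3 with ((h3 | h3) | h3) | h3
  · left; rw [Nat.eq_of_beq_eq_true h3, ph_zero]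
  · right; left; rw [Nat.eq_of_beq_eq_true h3, ph_one nn]
  · right; right; left; rw [Nat.eq_of_beq_eq_true h3, ph_z]
  · right; right; right
    rw [Nat.eq_of_beq_eq_true h3]
    have : mu 256 1 = 257 := by decide +kernel
    rw [← this, ph_mul nn, ph_z, ph_one nn]

theorem d_ne (nn : Nine z a) (g : Gens z a d e n) : d ≠ 1 := by
  intro h
  have h1 := g.d_sl 3 (by norm_num)
  have h2 : gt pd 3 = 2 := by decide +kernel
  rw [h, h2] at h1
  have h3 : (1 : G) * a 3 * 1⁻¹ = a 3 := by group
  rw [h3] at h1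
  exact (ne_point nn (i := 3) (j := 2) (by norm_num) (by norm_num) (by norm_num)).1 h1

theorem orderOf_d (nn : Nine z a) (g : Gens z a d e n) : orderOf d = 7 := by
  have : Fact (Nat.Prime 7) := ⟨by norm_num⟩
  exact orderOf_eq_prime g.rel.d7 (d_ne nn g)

/-- The element `t`. -/
theorem exists_t0 [Finite G] (X : Ctx Q z a) (g : Gens z a d e n) (hPG : HPG z a)
    (h49 : ¬ 49 ∣ Nat.card (Subgroup.centralizer ({z} : Set G))) {a' : G} (p : Pair Q z A a')
    (ha' : a' = a 0 ∨ a' = z * a 0) :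
    ∃ t, t * t = 1 ∧ t * d = d * t ∧ t * z * t = a' ∧ t * a' * t = z ∧ (a 1 * t) ^ 3 = 1 := by
  have nn := X.nine
  have hd0 : d * a 0 = a 0 * d := (comm_of_fix g.d_sl (by norm_num) (by decide +kernel)).symm
  have hd1 : d * a 1 = a 1 * d := (comm_of_fix g.d_sl (by norm_num) (by decide +kernel)).symm
  have hcoma : ∀ c : G, c * z = z * c → (c * a 0 = a 0 * c ↔ c * a' = a' * c) := by
    intro c hc
    rcases ha' with h | h
    · rw [h]
    · rw [h]
      constructor
      · intro h1; exact (by rw [← mul_assoc, hc, mul_assoc, h1, mul_assoc])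
      · intro h1
        have h2 : z * (c * a 0) = z * (a 0 * c) := by
          rw [← mul_assoc, ← hc, mul_assoc, h1, mul_assoc]
        exact mul_left_cancel h2
  have hda' : d * a' = a' * d := (hcoma d g.dz).1 hd0
  obtain ⟨g0, hg1, hg2, -, -⟩ := p.isConj
  -- the group `K`
  let K : Subgroup G := Subgroup.centralizer ({z} : Set G) ⊓ Subgroup.centralizer ({a'} : Set G)
  have hK : ∀ c, c ∈ K ↔ c * z = z * c ∧ c * a' = a' * c := by
    intro c
    show c ∈ Subgroup.centralizer ({z} : Set G) ∧ c ∈ Subgroup.centralizer ({a'} : Set G) ↔ _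
    rw [Subgroup.mem_centralizer_singleton_iff, Subgroup.mem_centralizer_singleton_iff]
  have h49K : ¬ 49 ∣ Nat.card K := fun h => h49 (h.trans (Subgroup.card_dvd_of_le inf_le_left))
  have hdK : d ∈ K := (hK d).2 ⟨g.dz, hda'⟩
  have hd2K : g0 * d * g0⁻¹ ∈ K := by
    rw [hK]
    constructor
    · calc g0 * d * g0⁻¹ * z = g0 * d * (g0⁻¹ * z * g0) * g0⁻¹ := by group
        _ = g0 * d * a' * g0⁻¹ := by rw [← hg2]; group
        _ = g0 * (a' * d) * g0⁻¹ := by rw [← hda']; group
        _ = (g0 * a' * g0⁻¹) * (g0 * d * g0⁻¹) := by group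
        _ = _ := by rw [hg2]
    · calc g0 * d * g0⁻¹ * a' = g0 * d * (g0⁻¹ * a' * g0) * g0⁻¹ := by group
        _ = g0 * d * z * g0⁻¹ := by rw [← hg1]; group
        _ = g0 * (z * d) * g0⁻¹ := by rw [← g.dz]; group
        _ = (g0 * z * g0⁻¹) * (g0 * d * g0⁻¹) := by group
        _ = _ := by rw [hg1]
  have hod := orderOf_d nn g
  have ho1 : orderOf (⟨d, hdK⟩ : K) = 7 := by rw [Subgroup.orderOf_mk]; exact hod
  have ho2 : orderOf (⟨g0 * d * g0⁻¹, hd2K⟩ : K) = 7 := by
    rw [Subgroup.orderOf_mk]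
    have := MulEquiv.orderOf_eq (MulAut.conj g0) d
    rw [MulAut.conj_apply] at this
    rw [this]; exact hod
  obtain ⟨k, ⟨i, hi⟩, ⟨j, hj⟩⟩ := conj_zpowers ho1 ho2 h49K
  obtain ⟨hkz, hka'⟩ := (hK k).1 k.2
  set g1 : G := k * g0 with hg1def
  have hg1z : g1 * z * g1⁻¹ = a' := by
    calc g1 * z * g1⁻¹ = k * (g0 * z * g0⁻¹) * (k : G)⁻¹ := by rw [hg1def]; group
      _ = (k : G) * a' * (k : G)⁻¹ := by rw [hg1]
      _ = a' := by rw [hka']; group
  have hg1a : g1 * a' * g1⁻¹ = z := by
    calc g1 * a' * g1⁻¹ = k * (g0 * a' * g0⁻¹) * (k : G)⁻¹ := by rw [hg1def]; group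
      _ = (k : G) * z * (k : G)⁻¹ := by rw [hg2]
      _ = z := by rw [hkz]; group
  have hg1d : d = (g1 * d * g1⁻¹) ^ j := by
    have := congrArg (fun w : K => (w : G)) hj
    have e : ((k * ⟨g0 * d * g0⁻¹, hd2K⟩ * k⁻¹ : K) : G) = g1 * d * g1⁻¹ := by
      show (k : G) * (g0 * d * g0⁻¹) * (k : G)⁻¹ = _
      rw [hg1def]; group
    rw [← e]
    exact this
  -- `b` and its conjugate
  set b := a 1 with hb
  have hbb : b * b = 1 := nn.sq 1 (by norm_num)
  have hbi : b⁻¹ = b := inv_eq_of_mul_eq_one_left hbb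
  have hbz : b * z = z * b := nn.comm 1 (by norm_num)
  have hba0 : b * a 0 = z * (a 0 * b) := anti' nn (by norm_num) (by norm_num) (by norm_num)
  have hzz := nn.zz
  have hba' : b * a' * b = z * a' := by
    rcases ha' with h | h
    · rw [h, hba0]
      calc z * (a 0 * b) * b = z * a 0 * (b * b) := by group
        _ = _ := by rw [hbb, mul_one]
    · rw [h]
      calc b * (z * a 0) * b = (b * z) * a 0 * b := by group
        _ = z * (b * a 0) * b := by rw [hbz]; group
        _ = z * (z * (a 0 * b)) * b := by rw [hba0]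
        _ = z * (z * a 0) * (b * b) := by group
        _ = _ := by rw [hbb, mul_one]
  set b2 := g1 * b * g1⁻¹ with hb2
  have hb2b2 : b2 * b2 = 1 := by
    rw [hb2]
    calc g1 * b * g1⁻¹ * (g1 * b * g1⁻¹) = g1 * (b * b) * g1⁻¹ := by group
      _ = 1 := by rw [hbb]; group
  have hb2i : b2⁻¹ = b2 := inv_eq_of_mul_eq_one_left hb2b2
  have hb2d : b2 * d = d * b2 := by
    have h1 : b2 * (g1 * d * g1⁻¹) = (g1 * d * g1⁻¹) * b2 := by
      rw [hb2]
      calc g1 * b * g1⁻¹ * (g1 * d * g1⁻¹) = g1 * (b * d) * g1⁻¹ := by group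
        _ = g1 * (d * b) * g1⁻¹ := by rw [hd1]
        _ = _ := by group
    have h2 : b2 * (g1 * d * g1⁻¹) ^ j = (g1 * d * g1⁻¹) ^ j * b2 :=
      (comm_pow h1.symm j).symm
    rwa [← hg1d] at h2
  have hza' : z * a' = a' * z := by
    have := p.lz.comm_z a' p.a_mem
    exact this.symm
  have hb2z : b2 * z * b2 = z * a' := by
    have : b2 * z * b2 = g1 * (b * (g1⁻¹ * z * g1) * b) * g1⁻¹ := by rw [hb2]; group
    rw [this]
    have h1 : g1⁻¹ * z * g1 = a' := by rw [← hg1a]; group
    rw [h1, hba']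
    calc g1 * (z * a') * g1⁻¹ = (g1 * z * g1⁻¹) * (g1 * a' * g1⁻¹) := by group
      _ = _ := by rw [hg1z, hg1a, hza']
  have hb2a : b2 * a' * b2 = a' := by
    have : b2 * a' * b2 = g1 * (b * (g1⁻¹ * a' * g1) * b) * g1⁻¹ := by rw [hb2]; group
    rw [this]
    have h1 : g1⁻¹ * a' * g1 = z := by rw [← hg1z]; group
    have h2 : b * z * b = z := by rw [hbz, mul_assoc, hbb, mul_one]
    rw [h1, h2, hg1z]
  refine ⟨b * b2 * b, ?_, ?_, ?_, ?_, ?_⟩
  · calc b * b2 * b * (b * b2 * b) = b * b2 * (b * b) * b2 * b := by group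
      _ = b * (b2 * b2) * b := by rw [hbb]; group
      _ = 1 := by rw [hb2b2, mul_one, hbb]
  · exact comm_mul (comm_mul hd1.symm hb2d) hd1.symm
  · calc b * b2 * b * z * (b * b2 * b) = b * b2 * (b * z) * b * b2 * b := by group
      _ = b * b2 * z * (b * b) * b2 * b := by rw [hbz]; group
      _ = b * (b2 * z * b2) * b := by rw [hbb]; group
      _ = (b * z) * a' * b := by rw [hb2z]; group
      _ = z * (b * a' * b) := by rw [hbz]; group
      _ = (z * z) * a' := by rw [hba']; group
      _ = a' := by rw [hzz, one_mul]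
  · calc b * b2 * b * a' * (b * b2 * b) = b * b2 * (b * a' * b) * b2 * b := by group
      _ = b * (b2 * z * (b2 * b2) * a' * b2) * b := by rw [hba', hb2b2]; group
      _ = b * ((b2 * z * b2) * (b2 * a' * b2)) * b := by group
      _ = b * (z * a' * a') * b := by rw [hb2z, hb2a]
      _ = b * z * b := by rw [mul_assoc z, p.la.z_sq, mul_one]
      _ = z := by rw [hbz, mul_assoc, hbb, mul_one]
  · -- `r = b2 * b`
    have hr : b * (b * b2 * b) = b2 * b := by
      calc b * (b * b2 * b) = (b * b) * b2 * b := by group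
        _ = _ := by rw [hbb, one_mul]
    rw [hr]
    set r := b2 * b with hrd
    have hri : r⁻¹ = b * b2 := by rw [hrd, mul_inv_rev, hbi, hb2i]
    have hrz : r * z * r⁻¹ = z * a' := by
      rw [hri, hrd]
      calc b2 * b * z * (b * b2) = b2 * (b * z) * b * b2 := by group
        _ = b2 * z * (b * b) * b2 := by rw [hbz]; group
        _ = z * a' := by rw [hbb, mul_one, hb2z]
    have hra : r * a' * r⁻¹ = z := by
      rw [hri, hrd]
      calc b2 * b * a' * (b * b2) = b2 * (b * a' * b) * b2 := by group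
        _ = b2 * z * (b2 * b2) * a' * b2 := by rw [hba', hb2b2]; group
        _ = (b2 * z * b2) * (b2 * a' * b2) := by group
        _ = z * (a' * a') := by rw [hb2z, hb2a, mul_assoc]
        _ = z := by rw [p.la.z_sq, mul_one]
    have hrza : r * (z * a') * r⁻¹ = a' := by
      calc r * (z * a') * r⁻¹ = (r * z * r⁻¹) * (r * a' * r⁻¹) := by group
        _ = a' := by rw [hrz, hra, mul_assoc, ← hza', ← mul_assoc, hzz, one_mul]
    have hrd' : r * d = d * r := comm_mul hb2d hd1.symm
    have cu : ∀ x : G, r ^ 3 * x * (r ^ 3)⁻¹ = r * (r * (r * x * r⁻¹) * r⁻¹) * r⁻¹ := by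
      intro x
      rw [pow_succ, pow_two]; group
    have hr3z : r ^ 3 * z = z * r ^ 3 := by
      have := cu z
      rw [hrz, hrza, hra] at this
      exact mul_inv_eq_iff_eq_mul.1 this
    have hr3a : r ^ 3 * a' = a' * r ^ 3 := by
      have := cu a'
      rw [hra, hrz, hrza] at this
      exact mul_inv_eq_iff_eq_mul.1 this
    obtain ⟨v, m, hv, hvV⟩ := cent_d X g hPG hr3z ((hcoma _ hr3z).2 hr3a) (comm_pow hrd' 3)
    have hvd : v * d = d * v := by
      have : v = r ^ 3 * (d ^ m)⁻¹ := by rw [hv]; group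
      rw [this]; exact comm_mul (comm_pow hrd' 3) (comm_inv (comm_pow rfl m))
    -- conjugation by `b`
    have hbr : b * r ^ 3 * b = (r ^ 3)⁻¹ := by
      have h1 : b * r * b⁻¹ = r⁻¹ := by
        rw [hri, hrd, hbi]
        calc b * (b2 * b) * b = b * b2 * (b * b) := by group
          _ = _ := by rw [hbb, mul_one]
      have h2 : b * r ^ 3 * b⁻¹ = (r ^ 3)⁻¹ := by rw [← conj_pow, h1, inv_pow]
      rwa [hbi] at h2
    have hvv : v * v = 1 := by
      have h00 := nn.sq 0 (by norm_num)
      have h0z := nn.comm 0 (by norm_num)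
      rcases hvV with h | h | h | h <;> rw [h]
      · exact one_mul 1
      · exact h00
      · exact hzz
      · calc z * a 0 * (z * a 0) = z * (a 0 * z) * a 0 := by group
          _ = (z * z) * (a 0 * a 0) := by rw [h0z]; group
          _ = 1 := by rw [hzz, h00, one_mul]
    have hbv : b * v * b = v ∨ b * v * b = z * v := by
      have h0 : b * a 0 * b = z * a 0 := by
        rw [hba0]
        calc z * (a 0 * b) * b = z * a 0 * (b * b) := by group
          _ = _ := by rw [hbb, mul_one]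
      rcases hvV with h | h | h | h <;> rw [h]
      · left; rw [mul_one, hbb]
      · right; exact h0
      · left; rw [hbz, mul_assoc, hbb, mul_one]
      · right
        calc b * (z * a 0) * b = (b * z) * a 0 * b := by group
          _ = z * (b * a 0 * b) := by rw [hbz]; group
          _ = _ := by rw [h0]
    have hvz : v * z = z * v := by
      have h0z := nn.comm 0 (by norm_num)
      rcases hvV with h | h | h | h <;> rw [h]
      · rw [one_mul, mul_one]
      · exact h0z
      · rw [mul_assoc, h0z]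
    have hdm : d ^ m = 1 := by
      have h1 : (b * v * b) * d ^ m = v * (d ^ m)⁻¹ := by
        calc (b * v * b) * d ^ m = b * v * (b * d ^ m) := by group
          _ = b * v * (d ^ m * b) := by rw [← comm_pow hd1 m]
          _ = b * (v * d ^ m) * b := by group
          _ = (r ^ 3)⁻¹ := by rw [← hv, hbr]
          _ = (d ^ m)⁻¹ * v⁻¹ := by rw [hv, mul_inv_rev]
          _ = (d ^ m)⁻¹ * v := by rw [inv_eq_of_mul_eq_one_left hvv]
          _ = v * (d ^ m)⁻¹ := (comm_inv (comm_pow hvd.symm m))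
      have h2 : d ^ m * d ^ m = 1 ∨ d ^ m * d ^ m = z := by
        rcases hbv with h | h
        · left
          rw [h] at h1
          have := mul_left_cancel h1
          exact eq_inv_iff_mul_eq_one.1 this
        · right
          rw [h, ← hvz, mul_assoc] at h1
          have h3 := mul_left_cancel h1
          calc d ^ m * d ^ m = z * (z * d ^ m) * d ^ m := by rw [← mul_assoc, hzz, one_mul]
            _ = z * (d ^ m)⁻¹ * d ^ m := by rw [h3]
            _ = z := by group
      have h4 : d ^ (4 * m) = 1 := by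
        have : d ^ (4 * m) = (d ^ m * d ^ m) * (d ^ m * d ^ m) := by
          rw [← pow_add, ← pow_add]; congr 1; ring
        rw [this]
        rcases h2 with h | h
        · rw [h, one_mul]
        · rw [h, hzz]
      have h5 : 7 ∣ 4 * m := by rw [← hod]; exact orderOf_dvd_of_pow_eq_one h4
      have h6 : 7 ∣ m := (Nat.Coprime.dvd_of_dvd_mul_left (by norm_num) h5)
      obtain ⟨w, rfl⟩ := h6
      rw [pow_mul, g.rel.d7, one_pow]
    rw [hdm, mul_one] at hv
    rw [hv]
    have hrv : r * v * r⁻¹ = v := by rw [← hv]; group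
    have hane : a' ≠ 1 := p.la.z_ne
    have hmem : v = 1 ∨ v = a' ∨ v = z ∨ v = z * a' := by
      rcases ha' with h | h
      · rw [h]; exact hvV
      · rw [h]
        have : z * (z * a 0) = a 0 := by rw [← mul_assoc, hzz, one_mul]
        rw [this]; tauto
    rcases hmem with h | h | h | h
    · exact h
    · exfalso
      rw [h, hra] at hrv
      exact p.ne hrv.symm
    · exfalso
      rw [h, hrz] at hrv
      exact hane (mul_eq_left.1 hrv)
    · exfalso
      rw [h, hrza] at hrv
      exact nn.z_ne (mul_eq_right.1 hrv.symm)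

end

end Cfsg.Agent.TrialityTwo.StepT
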