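import Cfsg.Agent.TrialityTwo.StepR
import Cfsg.Agent.TrialityTwo.StepT
import Cfsg.Agent.TrialityTwo.Lab

/-!
# The element `t` with all its relations (helper814)
-/

set_option autoImplicit false

namespace Cfsg.Agent.TrialityTwo.StepU

open Cfsg.Agent.LargeExtra.Model Cfsg.Agent.LargeExtra.Pres Cfsg.Agent.TrialityTwo.Nine
open Cfsg.Agent.TrialityTwo.Perm Cfsg.Agent.TrialityTwo.Lift Cfsg.Agent.TrialityTwo.RelCx
open Cfsg.Agent.TrialityTwo.PGam Cfsg.Agent.TrialityTwo.StepD Cfsg.Agent.TrialityTwo.StepT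
open Cfsg.Agent.TrialityTwo.StepR Cfsg.Agent.TrialityTwo.Lab
open Cfsg.Agent.Co2Type.Quad Cfsg.Agent.LargeExtra.Base Cfsg.Agent.LargeExtra.Local

section

variable {G : Type*} [Group G] {Q A : Subgroup G} {z : G} {a : ℕ → G} {d e n t a' : G}

/-- the permutation representation of `C(z)` on the nine points -/
theorem exists_perm (nn : Nine z a)
    (hact : ∀ c, c * z = z * c → ∃ p, wp p = true ∧ Act z a c p) :
    ∃ φ : Subgroup.centralizer ({z} : Set G) →* Equiv.Perm (Fin 9),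
      ∀ (c : Subgroup.centralizer ({z} : Set G)) (p : ℕ), wp p = true → Act z a c p →
        ∀ i : Fin 9, ((φ c i : Fin 9) : ℕ) = gt p i := by
  classical
  have hz : ∀ c : Subgroup.centralizer ({z} : Set G), (c : G) * z = z * c := fun c =>
    Subgroup.mem_centralizer_singleton_iff.1 c.2
  choose P hP1 hP2 using fun c : Subgroup.centralizer ({z} : Set G) => hact c (hz c)
  let f : Subgroup.centralizer ({z} : Set G) → Fin 9 → Fin 9 := fun c i => ⟨gt (P c) i, wp_lt (hP1 c) i.2⟩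
  have hf : ∀ c, Function.Injective (f c) := fun c i j hij =>
    Fin.ext (wp_inj (hP1 c) i.2 j.2 (congrArg Fin.val hij))
  let F : Subgroup.centralizer ({z} : Set G) → Equiv.Perm (Fin 9) := fun c =>
    Equiv.ofBijective (f c) (Finite.injective_iff_bijective.1 (hf c))
  have hF : ∀ c i, ((F c i : Fin 9) : ℕ) = gt (P c) i := fun c i => rfl
  have huniq : ∀ (c : Subgroup.centralizer ({z} : Set G)) (p : ℕ), wp p = true → Act z a c p →
        ∀ i : Fin 9, ((F c i : Fin 9) : ℕ) = gt p i := by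
    intro c p hp hc i
    rw [hF]
    exact Act.unique nn (hP2 c) hc (fun i hi => wp_lt (hP1 c) hi) (fun i hi => wp_lt hp hi) i i.2
  have actmul : ∀ c c' : Subgroup.centralizer ({z} : Set G), Act z a ((c * c' : _) : G) (cp (P c) (P c')) := by
    intro c c' i hi
    have e : ((c * c' : Subgroup.centralizer ({z} : Set G)) : G) * a i * ((c * c' : Subgroup.centralizer ({z} : Set G)) : G)⁻¹ =
        (c : G) * ((c' : G) * a i * (c' : G)⁻¹) * (c : G)⁻¹ := by
      show (c : G) * c' * a i * ((c : G) * c')⁻¹ = _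
      group
    have e2 : ∀ x : G, (c : G) * (z * x) * (c : G)⁻¹ = z * (c * x * (c : G)⁻¹) := by
      intro x
      calc (c : G) * (z * x) * (c : G)⁻¹ = (c * z) * x * (c : G)⁻¹ := by group
        _ = z * (c * x * (c : G)⁻¹) := by rw [hz c]; group
    rw [e, gt_cp _ _ hi]
    rcases hP2 c' i hi with h1 | h1 <;> rcases hP2 c _ (wp_lt (hP1 c') hi) with h2 | h2
    · left; rw [h1, h2]
    · right; rw [h1, h2]
    · right; rw [h1, e2, h2]
    · left; rw [h1, e2, h2, ← mul_assoc, nn.zz, one_mul]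
  have wcp : ∀ p q, wp p = true → wp q = true → wp (cp p q) = true := by
    intro p q hp hq
    refine wp_of (fun i hi => ?_) (fun i hi j hj hij => ?_)
    · rw [gt_cp _ _ hi]; exact wp_lt hp (wp_lt hq hi)
    · rw [gt_cp _ _ hi, gt_cp _ _ hj] at hij
      exact wp_inj hq hi hj (wp_inj hp (wp_lt hq hi) (wp_lt hq hj) hij)
  refine ⟨MonoidHom.mk' F ?_, huniq⟩
  intro c c'
  ext i
  rw [huniq (c * c') _ (wcp _ _ (hP1 c) (hP1 c')) (actmul c c') i, gt_cp _ _ i.2]
  show _ = ((F c (F c' i) : Fin 9) : ℕ)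
  rw [hF, hF]

theorem not_49 [Finite G] (X : Ctx Q z a)
    (hact : ∀ c, c * z = z * c → ∃ p, wp p = true ∧ Act z a c p) :
    ¬ 49 ∣ Nat.card (Subgroup.centralizer ({z} : Set G)) := by
  classical
  obtain ⟨φ, hφ⟩ := exists_perm X.nine hact
  have h1 : Nat.card (Subgroup.centralizer ({z} : Set G)) = Nat.card φ.ker * Nat.card φ.range := by
    rw [← Subgroup.card_mul_index φ.ker, Subgroup.index_ker]
  have hle : φ.ker.map (Subgroup.centralizer ({z} : Set G)).subtype ≤ Q := by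
    rintro _ ⟨c, hc, rfl⟩
    have hcz : (c : G) * z = z * c := Subgroup.mem_centralizer_singleton_iff.1 c.2
    obtain ⟨p, hp, hp'⟩ := hact c hcz
    refine mem_Q_of_act X hcz (hp'.congr fun i hi => ?_)
    have h2 := hφ c p hp hp' ⟨i, hi⟩
    rw [show φ c = 1 from hc] at h2
    rw [gt_idp hi]
    exact h2.symm
  have h2 : Nat.card φ.ker ∣ 2 ^ 9 := by
    rw [← X.card]
    have := Subgroup.card_dvd_of_le hle
    rwa [Subgroup.card_map_of_injective (Subgroup.subtype_injective _)] at this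
  have h3 : Nat.card φ.range ∣ Nat.factorial 9 := by
    have := Subgroup.card_subgroup_dvd_card φ.range
    rwa [Nat.card_perm, Nat.card_fin] at this
  intro h
  rw [h1] at h
  have h4 := h.trans (mul_dvd_mul h2 h3)
  revert h4
  decide

theorem exists_t [Finite G] (X : Ctx Q z a) (g : Gens z a d e n) (hPG : HPG z a)
    (p : Pair Q z A (a 0)) : ∃ t, RelT d e n (a 0) t ∧ t * z * t = a 0 := by
  have nn := X.nine
  have h49 : ¬ 49 ∣ Nat.card (Subgroup.centralizer ({z} : Set G)) := by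
    refine not_49 X fun c hc => ?_
    obtain ⟨q, hq, hq'⟩ := hPG c hc
    exact ⟨q, wp_of_vp (Tr.all_mem pg_vp hq), hq'⟩
  obtain ⟨y, hyA, hyz, hye⟩ := exists_y X g hPG p
  have hbb : a 1 * a 1 = 1 := nn.sq 1 (by norm_num)
  have hbi : (a 1)⁻¹ = a 1 := inv_eq_of_mul_eq_one_left hbb
  have main : ∀ {A' : Subgroup G} {a' : G} (p' : Pair Q z A' a'), (a' = a 0 ∨ a' = z * a 0) → e ∈ A' →
      (∀ k < 512, inD k = true → ph z a k ∈ A') → ∃ t, RelT d e n (a 0) t ∧ t * z * t = a 0 := by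
    intro A' a' p' ha' heA hD
    obtain ⟨t, ht1, ht2, ht3, -, ht5⟩ := exists_t0 X g hPG h49 p' ha'
    obtain ⟨h1, h2⟩ := relT X g p' heA hD ht1 ht2 ht3 ht5
    exact ⟨t, h2, by rw [ht3, h1]⟩
  rcases e_mem_or X g p hyA hyz hye with he | he
  · exact main p (Or.inl rfl) he (fun k hk hk' => D_le X g p hyA hyz hye hk hk')
  · obtain ⟨g0, hg1, -, hA, -⟩ := p.isConj
    have hconj : (a 1 * g0) * z * (a 1 * g0)⁻¹ = z * a 0 := by
      calc (a 1 * g0) * z * (a 1 * g0)⁻¹ = a 1 * (g0 * z * g0⁻¹) * (a 1)⁻¹ := by group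
        _ = a 1 * a 0 * (a 1)⁻¹ := by rw [hg1]
        _ = z * a 0 := by
          rw [anti' nn (by norm_num) (by norm_num) (by norm_num : (1 : ℕ) ≠ 0)]; group
    have p' := pair_of_conj X.large (g := a 1 * g0) (by
      rw [hconj]; exact mul_mem X.large.z_mem (X.mem 0 (by norm_num))) (by
      rw [hconj]
      intro h
      have h2 : a 0 = 1 := mul_eq_left.1 h
      exact p.la.z_ne h2)
    have hmem : ∀ x, x ∈ Q.map (MulAut.conj (a 1 * g0)).toMonoidHom ↔ a 1 * x * a 1 ∈ A := by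
      intro x
      constructor
      · rintro ⟨w, hw, rfl⟩
        have : a 1 * (MulAut.conj (a 1 * g0)).toMonoidHom w * a 1 = g0 * w * g0⁻¹ := by
          show a 1 * (a 1 * g0 * w * (a 1 * g0)⁻¹) * a 1 = _
          calc a 1 * (a 1 * g0 * w * (a 1 * g0)⁻¹) * a 1 = (a 1 * a 1) * (g0 * w * g0⁻¹) * ((a 1)⁻¹ * a 1) := by group
            _ = _ := by rw [hbb]; group
        rw [this, hA]
        exact ⟨w, hw, rfl⟩
      · intro hx
        rw [hA] at hx
        obtain ⟨w, hw, hwx⟩ := hx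
        refine ⟨w, hw, ?_⟩
        have hwx' : g0 * w * g0⁻¹ = a 1 * x * a 1 := hwx
        show a 1 * g0 * w * (a 1 * g0)⁻¹ = x
        calc a 1 * g0 * w * (a 1 * g0)⁻¹ = a 1 * (g0 * w * g0⁻¹) * (a 1)⁻¹ := by group
          _ = (a 1 * a 1) * x * (a 1 * a 1) := by rw [hwx', hbi]; group
          _ = x := by rw [hbb]; group
    refine main p' (Or.inr hconj) ((hmem e).2 he) ?_
    intro k hk hk'
    rw [hmem]
    have h1 := D_le X g p hyA hyz hye hk hk'
    have h2 := conj_Q X (X.mem 1 (by norm_num)) (ph_mem X.large.z_mem X.mem k)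
    rw [hbi] at h2
    rcases h2 with h2 | h2
    · rw [h2]; exact h1
    · rw [h2]; exact mul_mem p.z_mem h1

end

end Cfsg.Agent.TrialityTwo.StepU
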